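import Groth.Agent.ChowLib.Chow
import Groth.Agent.DvrDom.Scheme
import Groth.Agent.DvrDom.Criteria
import Mathlib.AlgebraicGeometry.Morphisms.Proper
import Mathlib.AlgebraicGeometry.FunctionField
import Mathlib.AlgebraicGeometry.Morphisms.Finite

/-!
# Properness near a point, tested on discrete valuation rings of the function field
-/

set_option autoImplicit false

universe u

open CategoryTheory CategoryTheory.Limits AlgebraicGeometry TopologicalSpace

namespace DvrProperLib

/-- A ring isomorphism between a pulled back valuation subring and the original one. -/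
theorem exists_comap_equiv {K L : Type u} [Field K] [Field L] (φ : K →+* L)
    (hφ : Function.Bijective φ) (A : ValuationSubring L) :
    ∃ ε : A.comap φ ≃+* A, A.subtype.comp ε.toRingHom = φ.comp (A.comap φ).subtype := by
  let ε₀ : A.comap φ →+* A :=
    { toFun := fun a ↦ ⟨φ a.1, a.2⟩
      map_one' := Subtype.ext (map_one φ)
      map_mul' := fun a b ↦ Subtype.ext (map_mul φ a.1 b.1)
      map_zero' := Subtype.ext (map_zero φ)
      map_add' := fun a b ↦ Subtype.ext (map_add φ a.1 b.1) }
  refine ⟨RingEquiv.ofBijective ε₀ ⟨fun a b h ↦ Subtype.ext (hφ.1 (congrArg Subtype.val h)),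
    fun b ↦ ?_⟩, RingHom.ext fun _ ↦ rfl⟩
  obtain ⟨k, hk⟩ := hφ.2 b.1
  exact ⟨⟨k, show φ k ∈ A from hk ▸ b.2⟩, Subtype.ext hk⟩

theorem isDominant_subtype {K : Type u} [Field K] (A : ValuationSubring K) :
    IsDominant (Spec.map (CommRingCat.ofHom A.subtype)) :=
  ⟨(PrimeSpectrum.denseRange_comap_iff_ker_le_nilRadical _).mpr (by
    have h0 : RingHom.ker A.subtype = ⊥ :=
      (RingHom.injective_iff_ker_eq_bot _).mp Subtype.val_injective
    exact h0.le.trans bot_le)⟩

/-- If every discrete valuation ring of the function field of an integral scheme `W` which is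
centred at `y` has a centre on `W`, then `W` is proper over a neighbourhood of `y`. -/
theorem exists_isProper_nhd {W Y : Scheme.{u}} [IsIntegral W] [IsLocallyNoetherian Y] (f : W ⟶ Y)
    [IsSeparated f] [LocallyOfFiniteType f] [QuasiCompact f] (y : Y)
    (H : ∀ A : ValuationSubring (W.residueField (genericPoint W)), IsDiscreteValuationRing A →
      ∀ h : Spec (CommRingCat.of A) ⟶ Y,
        Spec.map (CommRingCat.ofHom A.subtype) ≫ h =
          W.fromSpecResidueField (genericPoint W) ≫ f →
        h (IsLocalRing.closedPoint A) = y →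
        ∃ l : Spec (CommRingCat.of A) ⟶ W, l ≫ f = h ∧
          Spec.map (CommRingCat.ofHom A.subtype) ≫ l = W.fromSpecResidueField (genericPoint W)) :
    ∃ U : Y.Opens, y ∈ U ∧ IsProper (f ∣_ U) := by
  obtain ⟨V, hV, hyV⟩ : ∃ V : Y.Opens, IsAffineOpen V ∧ y ∈ V := by
    obtain ⟨_, ⟨V, hV, rfl⟩, hyV, -⟩ :=
      Y.isBasis_affineOpens.exists_subset_of_mem_open (Set.mem_univ y) isOpen_univ
    exact ⟨V, hV, hyV⟩
  have : IsAffine V := hV
  let g := f ∣_ V
  have : IsLocallyNoetherian V.toScheme := isLocallyNoetherian_of_isOpenImmersion V.ι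
  have : IsSeparated g := MorphismProperty.of_isPullback (isPullback_morphismRestrict f V).flip ‹_›
  have : LocallyOfFiniteType g :=
    MorphismProperty.of_isPullback (isPullback_morphismRestrict f V).flip ‹_›
  have : QuasiCompact g := MorphismProperty.of_isPullback (isPullback_morphismRestrict f V).flip ‹_›
  have : CompactSpace (f ⁻¹ᵁ V).toScheme := QuasiCompact.compactSpace_of_compactSpace g
  have : QuasiSeparatedSpace (f ⁻¹ᵁ V).toScheme := quasiSeparatedSpace_of_quasiSeparated g
  have : IsLocallyNoetherian (f ⁻¹ᵁ V).toScheme := LocallyOfFiniteType.isLocallyNoetherian g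
  have : IsNoetherian (f ⁻¹ᵁ V).toScheme := ⟨⟩
  obtain ⟨n, X', π, j, U0, hj, hjπ, hπ, hπs, hU0, -, -, d, hd, hdqc, hdπ⟩ :=
    ChowLib.chow g NoetherianSpace.finite_irreducibleComponents
  let q := CohB1.ProjSpaceOver.toBase n V.toScheme
  have hjq : j ≫ q = π ≫ g := hjπ
  let F : Set (CohB1.ProjSpaceOver n V.toScheme : Scheme.{u}) :=
    closure (Set.range j) \ Set.range j
  have hFc : IsClosed F := by
    have h1 := j.isLocallyClosed_range.isOpen_coborder.isClosed_compl
    rwa [coborder, compl_compl] at h1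
  have hqF : IsClosed (q '' F) := q.isClosedMap _ hFc
  by_cases hy : (⟨y, hyV⟩ : V.toScheme) ∈ q '' F
  · exfalso
    obtain ⟨p, ⟨hp, hpj⟩, hqp⟩ := hy
    obtain ⟨_, x₀, rfl⟩ := closure_nonempty_iff.mp ⟨p, hp⟩
    have hne : Nonempty U0.toScheme := by
      obtain ⟨v, hv⟩ := hU0.nonempty (h := ⟨π x₀⟩)
      exact ⟨⟨v, hv⟩⟩
    let c : U0.toScheme ⟶ W := U0.ι ≫ (f ⁻¹ᵁ V).ι
    have : IsIntegral U0.toScheme := isIntegral_of_isOpenImmersion c
    let u := genericPoint U0.toScheme
    have hcu : c u = genericPoint W := genericPoint_eq_of_isOpenImmersion c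
    rw [← hcu] at H
    have hdq : (d ≫ j) ≫ q = U0.ι ≫ g := by
      rw [Category.assoc, hjq, ← Category.assoc, hdπ]
    have : LocallyOfFiniteType ((d ≫ j) ≫ q) := by rw [hdq]; infer_instance
    have : LocallyOfFiniteType (d ≫ j) := locallyOfFiniteType_of_comp _ q
    have : IsLocallyNoetherian (CohB1.ProjSpaceOver n V.toScheme) :=
      LocallyOfFiniteType.isLocallyNoetherian q
    have hsp : (d ≫ j) u ⤳ p := by
      rw [specializes_iff_mem_closure]
      have h1 : Set.range j ⊆ closure (Set.range (d ≫ j)) := by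
        rintro _ ⟨x, rfl⟩
        have hx : x ∈ closure (Set.range d) := d.denseRange x
        have h2 := image_closure_subset_closure_image j.continuous ⟨x, hx, rfl⟩
        rwa [← Set.range_comp] at h2
      have h3 : Set.range (d ≫ j) ⊆ closure {(d ≫ j) u} := by
        rintro _ ⟨w, rfl⟩
        exact specializes_iff_mem_closure.mp
          (((genericPoint_spec U0.toScheme).specializes trivial).map (d ≫ j).continuous)
      exact closure_minimal (h1.trans (closure_minimal h3 isClosed_closure)) isClosed_closure hp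
    have hne' : p ≠ (d ≫ j) u := fun e ↦ hpj ⟨d u, e.symm⟩
    obtain ⟨A, h, hA, hhc, hh⟩ :=
      DvrDomLib.exists_dvr_through_specialization (d ≫ j) u p hsp hne'
    let φ := c.residueFieldMap u
    have hφ : Function.Bijective φ.hom := ConcreteCategory.bijective_of_isIso φ
    obtain ⟨ε, hε⟩ := exists_comap_equiv φ.hom hφ A
    have : IsDiscreteValuationRing (A.comap φ.hom) :=
      IsDiscreteValuationRing.RingEquivClass.isDiscreteValuationRing ε.symm
    let e : Spec (CommRingCat.of A) ⟶ Spec (CommRingCat.of (A.comap φ.hom)) :=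
      Spec.map (CommRingCat.ofHom ε.toRingHom)
    let e' : Spec (CommRingCat.of (A.comap φ.hom)) ⟶ Spec (CommRingCat.of A) :=
      Spec.map (CommRingCat.ofHom ε.symm.toRingHom)
    have hee : e ≫ e' = 𝟙 _ := by
      rw [← Spec.map_comp, ← Spec.map_id]
      congr 1
      ext a
      exact congrArg Subtype.val (ε.apply_symm_apply a)
    let sA : CommRingCat.of A ⟶ U0.toScheme.residueField u := CommRingCat.ofHom A.subtype
    let sA' : CommRingCat.of (A.comap φ.hom) ⟶ W.residueField (c u) :=
      CommRingCat.ofHom (A.comap φ.hom).subtype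
    replace hh : Spec.map sA ≫ h = U0.toScheme.fromSpecResidueField u ≫ d ≫ j := hh
    have hsq : Spec.map φ ≫ Spec.map sA' = Spec.map sA ≫ e := by
      rw [← Spec.map_comp, ← Spec.map_comp]
      congr 1
      ext a
      exact (DFunLike.congr_fun hε a).symm
    have hgy : c ≫ f = d ≫ j ≫ q ≫ V.ι := by
      simp only [← Category.assoc]
      rw [hdq]
      simp only [c, g, Category.assoc, morphismRestrict_ι]
    obtain ⟨l', hl'f, hl'⟩ := H (A.comap φ.hom) this (e' ≫ h ≫ q ≫ V.ι) (by
        show Spec.map sA' ≫ _ = _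
        rw [← cancel_epi (Spec.map φ), ← Category.assoc, hsq, Category.assoc, reassoc_of% hee,
          reassoc_of% hh, ← hgy, ← Category.assoc (Spec.map φ),
          Scheme.Hom.SpecMap_residueFieldMap_fromSpecResidueField]
        exact (Category.assoc _ _ _).symm)
      (by
        have hcl : e' (IsLocalRing.closedPoint _) = IsLocalRing.closedPoint A :=
          (have : IsLocalHom ε.symm.toRingHom := ⟨fun a ha ↦ (isUnit_map_iff ε.symm a).mp ha⟩
           IsLocalRing.comap_closedPoint ε.symm.toRingHom)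
        erw [Scheme.Hom.comp_apply, hcl, Scheme.Hom.comp_apply, hhc, Scheme.Hom.comp_apply, hqp]
        rfl)
    let l : Spec (CommRingCat.of A) ⟶ W := e ≫ l'
    have hlf : l ≫ f = h ≫ q ≫ V.ι := by
      rw [Category.assoc, hl'f, reassoc_of% hee]
    replace hl' : Spec.map sA' ≫ l' = W.fromSpecResidueField (c u) := hl'
    have hlu : Spec.map sA ≫ l =
        U0.toScheme.fromSpecResidueField u ≫ c := by
      rw [← Category.assoc, ← hsq, Category.assoc, hl']
      exact Scheme.Hom.SpecMap_residueFieldMap_fromSpecResidueField c u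
    have hlr : Set.range l ⊆ Set.range (f ⁻¹ᵁ V).ι := by
      rintro _ ⟨w, rfl⟩
      rw [Scheme.Opens.range_ι]
      show f (l w) ∈ V
      rw [← Scheme.Hom.comp_apply, hlf, Scheme.Hom.comp_apply, Scheme.Hom.comp_apply]
      exact (q (h w)).2
    let l₁ := IsOpenImmersion.lift (f ⁻¹ᵁ V).ι l hlr
    have hl₁ : l₁ ≫ (f ⁻¹ᵁ V).ι = l := IsOpenImmersion.lift_fac _ _ _
    have hsq₁ : Spec.map sA ≫ l₁ =
        (U0.toScheme.fromSpecResidueField u ≫ d) ≫ π := by
      rw [← cancel_mono (f ⁻¹ᵁ V).ι, Category.assoc, hl₁, hlu]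
      simp only [Category.assoc, c, reassoc_of% hdπ]
    obtain ⟨m, hm₁, hm₂⟩ :=
      (DvrDomLib.dvrExistence_of_universallyClosed π).exists_lift A (U0.toScheme.residueField u)
        (U0.toScheme.fromSpecResidueField u ≫ d) l₁ hsq₁.symm
    have hgl : l₁ ≫ g = h ≫ q := by
      rw [← cancel_mono V.ι, Category.assoc, morphismRestrict_ι, ← Category.assoc, hl₁, hlf,
        Category.assoc]
    have hmh : m ≫ j = h := by
      have := isDominant_subtype A
      refine ext_of_isDominant_of_isSeparated q ?_ (Spec.map (CommRingCat.ofHom A.subtype)) ?_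
      · rw [Category.assoc, hjq, ← Category.assoc, hm₁, hgl]
      · rw [← Category.assoc]
        change (Spec.map sA ≫ m) ≫ j = Spec.map sA ≫ h
        replace hm₂ : Spec.map sA ≫ m = _ := hm₂
        rw [hm₂, hh, Category.assoc]
    refine hpj ⟨m (IsLocalRing.closedPoint A), ?_⟩
    show (m ≫ j) _ = p
    rw [hmh]
    exact hhc
  · let T : V.toScheme.Opens := ⟨(q '' F)ᶜ, hqF.isOpen_compl⟩
    have hcl : IsClosedImmersion (j ∣_ (q ⁻¹ᵁ T)) := by
      have : IsImmersion (j ∣_ (q ⁻¹ᵁ T)) :=
        MorphismProperty.of_isPullback (isPullback_morphismRestrict j (q ⁻¹ᵁ T)).flip ‹_›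
      refine IsClosedImmersion.of_isPreimmersion _ ?_
      have hr : Set.range (j ∣_ (q ⁻¹ᵁ T)) = (q ⁻¹ᵁ T).ι ⁻¹' closure (Set.range j) := by
        ext w
        constructor
        · rintro ⟨x, rfl⟩
          show (q ⁻¹ᵁ T).ι ((j ∣_ (q ⁻¹ᵁ T)) x) ∈ closure (Set.range j)
          rw [← Scheme.Hom.comp_apply, morphismRestrict_ι, Scheme.Hom.comp_apply]
          exact subset_closure ⟨_, rfl⟩
        · intro hw
          have hwj : (q ⁻¹ᵁ T).ι w ∈ Set.range j := by
            by_contra hn
            exact w.2 ⟨_, ⟨hw, hn⟩, rfl⟩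
          obtain ⟨x, hx⟩ := hwj
          have hxm : x ∈ j ⁻¹ᵁ (q ⁻¹ᵁ T) := by
            show j x ∈ q ⁻¹ᵁ T
            rw [hx]; exact w.2
          refine ⟨⟨x, hxm⟩, (q ⁻¹ᵁ T).ι.isEmbedding.injective ?_⟩
          show ((j ∣_ (q ⁻¹ᵁ T)) ≫ (q ⁻¹ᵁ T).ι) ⟨x, hxm⟩ = _
          rw [morphismRestrict_ι]
          exact hx
      rw [hr]
      exact isClosed_closure.preimage (q ⁻¹ᵁ T).ι.continuous
    have hjp : IsProper (j ∣_ (q ⁻¹ᵁ T)) := inferInstance
    have : IsProper (q ∣_ T) :=
      MorphismProperty.of_isPullback (isPullback_morphismRestrict q T).flip inferInstance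
    have hp1 : IsProper ((π ≫ g) ∣_ T) := by
      rw [← hjq, morphismRestrict_comp]
      exact MorphismProperty.comp_mem @IsProper _ _ hjp ‹IsProper (q ∣_ T)›
    rw [morphismRestrict_comp] at hp1
    have : Surjective (π ∣_ (g ⁻¹ᵁ T)) :=
      MorphismProperty.of_isPullback (isPullback_morphismRestrict π (g ⁻¹ᵁ T)).flip ‹_›
    have : IsSeparated (g ∣_ T) :=
      MorphismProperty.of_isPullback (isPullback_morphismRestrict g T).flip ‹_›
    have : LocallyOfFiniteType (g ∣_ T) :=
      MorphismProperty.of_isPullback (isPullback_morphismRestrict g T).flip ‹_›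
    have : UniversallyClosed (g ∣_ T) :=
      @UniversallyClosed.of_comp_surjective _ _ _ (π ∣_ (g ⁻¹ᵁ T)) (g ∣_ T) hp1.toUniversallyClosed
        ‹_›
    have hgT : IsProper (g ∣_ T) := { }
    exact ⟨V.ι ''ᵁ T, ⟨⟨y, hyV⟩, hy, rfl⟩,
      (MorphismProperty.arrow_mk_iso_iff @IsProper
        (morphismRestrictRestrict f V T)).mp hgT⟩

end DvrProperLib
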