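import Groth.Agent.DvrProperLib.Lift
import Groth.Agent.DvrProperLib.Core
import Groth.Agent.S0549
import Mathlib.RingTheory.AdicCompletion.LocalRing
import Mathlib.RingTheory.Localization.FractionRing

/-!
# Passing to the completion of a discrete valuation ring
-/

set_option autoImplicit false

universe u

open CategoryTheory CategoryTheory.Limits AlgebraicGeometry TopologicalSpace

namespace DvrProperLib

theorem exists_completion (A : Type u) [CommRing A] [IsDomain A] [IsDiscreteValuationRing A] :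
    ∃ (B : Type u) (_ : CommRing B) (_ : IsDomain B) (_ : IsDiscreteValuationRing B)
      (_ : IsAdicComplete (IsLocalRing.maximalIdeal B) B) (ι : A →+* B),
      Function.Injective ι ∧ IsLocalHom ι := by
  obtain ⟨hd, hB⟩ := (Groth.Agent.S0549.result A).mp ⟨inferInstance, inferInstance⟩
  have hl : IsLocalHom (algebraMap A (AdicCompletion (IsLocalRing.maximalIdeal A) A)) :=
    ((IsLocalRing.local_hom_TFAE _).out 2 0).mp AdicCompletion.maximalIdeal_eq_map.symm.le
  have : Module.FaithfullyFlat A (AdicCompletion (IsLocalRing.maximalIdeal A) A) :=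
    Module.FaithfullyFlat.of_flat_of_isLocalHom
  exact ⟨_, inferInstance, hd, hB, inferInstance, algebraMap A _,
    FaithfulSMul.algebraMap_injective A _, hl⟩

/-- A centre over the completion gives a centre over the discrete valuation ring itself. -/
theorem exists_lift_of_completion {X Y : Scheme.{u}} (f : X ⟶ Y) (z : X)
    (A : ValuationSubring (X.residueField z)) (h : Spec (CommRingCat.of A) ⟶ Y)
    (hh : Spec.map (CommRingCat.ofHom A.subtype) ≫ h = X.fromSpecResidueField z ≫ f)
    {B L : Type u} [CommRing B] [IsDomain B] [IsLocalRing B] [Field L] [Algebra B L]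
    [IsFractionRing B L] (ι : A →+* B) [IsLocalHom ι] (φ : X.residueField z →+* L)
    (hφ : φ.comp A.subtype = (algebraMap B L).comp ι) (l : Spec (CommRingCat.of B) ⟶ X)
    (hlf : l ≫ f = Spec.map (CommRingCat.ofHom ι) ≫ h)
    (hl : Spec.map (CommRingCat.ofHom (algebraMap B L)) ≫ l =
      Spec.map (CommRingCat.ofHom φ) ≫ X.fromSpecResidueField z) :
    ∃ l' : Spec (CommRingCat.of A) ⟶ X, l' ≫ f = h ∧
      Spec.map (CommRingCat.ofHom A.subtype) ≫ l' = X.fromSpecResidueField z := by
  let x := l (IsLocalRing.closedPoint B)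
  let xg : Spec (CommRingCat.of L) := IsLocalRing.closedPoint L
  have hzx : z ⤳ x := by
    have h1 : (Spec.map (CommRingCat.ofHom (algebraMap B L)) ≫ l) xg ⤳ x :=
      (IsLocalRing.specializes_closedPoint (R := B) _).map l.continuous
    rw [hl] at h1
    erw [Scheme.Hom.comp_apply, Scheme.fromSpecResidueField_apply] at h1
    exact h1
  let sA : CommRingCat.of A ⟶ X.residueField z := CommRingCat.ofHom A.subtype
  let φ' : X.residueField z ⟶ CommRingCat.of L := CommRingCat.ofHom φ
  let aB : CommRingCat.of B ⟶ CommRingCat.of L := CommRingCat.ofHom (algebraMap B L)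
  replace hh : Spec.map sA ≫ h = X.fromSpecResidueField z ≫ f := hh
  replace hl : Spec.map aB ≫ l = Spec.map φ' ≫ X.fromSpecResidueField z := hl
  let ψ : X.presheaf.stalk x ⟶ X.residueField z := X.presheaf.stalkSpecializes hzx ≫ X.residue z
  let γ : X.presheaf.stalk x ⟶ CommRingCat.of B := Scheme.stalkClosedPointTo l
  have hψ : ψ ≫ φ' = γ ≫ aB := by
    apply Spec.map_injective
    rw [← cancel_mono (X.fromSpecStalk x)]
    have h0 : Spec.map γ ≫ X.fromSpecStalk x = l := Scheme.Spec_stalkClosedPointTo_fromSpecStalk l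
    have h1 : Spec.map ψ ≫ X.fromSpecStalk x = X.fromSpecResidueField z := by
      rw [Spec.map_comp, Category.assoc, Scheme.SpecMap_stalkSpecializes_fromSpecStalk]
      rfl
    rw [Spec.map_comp ψ φ', Spec.map_comp γ aB]
    refine (Category.assoc _ _ _).trans (Eq.trans ?_ (Category.assoc _ _ _).symm)
    rw [h1, h0, hl]
  have hmem : ∀ r, ψ.hom r ∈ A := by
    intro r
    by_contra hr
    obtain hr' := (A.mem_or_inv_mem (ψ.hom r)).resolve_left hr
    let s : A := ⟨(ψ.hom r)⁻¹, hr'⟩
    have hne : ψ.hom r ≠ 0 := fun h0 ↦ hr (h0 ▸ A.zero_mem)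
    have hs : ¬ IsUnit s := by
      intro hu
      obtain ⟨t, ht⟩ := hu.exists_right_inv
      refine hr ?_
      have h1 : (ψ.hom r)⁻¹ * t.1 = 1 := congrArg Subtype.val ht
      rw [inv_mul_eq_one₀ hne] at h1
      rw [h1]
      exact t.2
    apply hs
    refine (isUnit_map_iff ι s).mp ?_
    refine IsUnit.of_mul_eq_one (γ.hom r) ?_
    apply IsFractionRing.injective B L
    have h1 : (algebraMap B L) (ι s) = φ (ψ.hom r)⁻¹ := (DFunLike.congr_fun hφ s).symm
    have h2 : (algebraMap B L) (γ.hom r) = φ (ψ.hom r) :=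
      (DFunLike.congr_fun (congrArg CommRingCat.Hom.hom hψ) r).symm
    rw [map_mul, map_one, h1, h2, ← map_mul, inv_mul_cancel₀ hne, map_one]
  let δ : X.presheaf.stalk x ⟶ CommRingCat.of A :=
    CommRingCat.ofHom (ψ.hom.codRestrict A.toSubring hmem)
  have hgen : Spec.map sA ≫ Spec.map δ ≫ X.fromSpecStalk x = X.fromSpecResidueField z := by
    rw [← Category.assoc, ← Spec.map_comp, show δ ≫ sA = ψ from rfl, Spec.map_comp, Category.assoc,
      Scheme.SpecMap_stalkSpecializes_fromSpecStalk]
    rfl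
  refine ⟨Spec.map δ ≫ X.fromSpecStalk x, ?_, hgen⟩
  obtain ⟨V, hV, hyV⟩ : ∃ V : Y.Opens, IsAffineOpen V ∧ h (IsLocalRing.closedPoint A) ∈ V := by
    obtain ⟨_, ⟨V, hV, rfl⟩, hyV, -⟩ := Y.isBasis_affineOpens.exists_subset_of_mem_open
      (Set.mem_univ (h (IsLocalRing.closedPoint A))) isOpen_univ
    exact ⟨V, hV, hyV⟩
  have : IsAffine V := hV
  have hfx : f x = h (IsLocalRing.closedPoint A) := by
    show (l ≫ f) (IsLocalRing.closedPoint B) = _
    rw [hlf]
    show h (PrimeSpectrum.comap ι (IsLocalRing.closedPoint B)) = _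
    rw [IsLocalRing.comap_closedPoint]
  have hr1 : Set.range ((Spec.map δ ≫ X.fromSpecStalk x) ≫ f) ⊆ Set.range V.ι := by
    rintro _ ⟨w, rfl⟩
    rw [Scheme.Opens.range_ι]
    have h1 : X.fromSpecStalk x (Spec.map δ w) ⤳ x := by
      rw [← Set.mem_setOf (p := fun t ↦ t ⤳ x), ← Scheme.range_fromSpecStalk]
      exact ⟨_, rfl⟩
    exact (h1.map f.continuous).mem_open V.isOpen (hfx.symm ▸ hyV)
  have hr2 : Set.range h ⊆ Set.range V.ι := by
    rw [Scheme.Opens.range_ι]
    exact range_subset_of_closedPoint_mem h hyV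
  have : IsDominant (Spec.map sA) := isDominant_subtype A
  have heq : IsOpenImmersion.lift V.ι _ hr1 = IsOpenImmersion.lift V.ι h hr2 := by
    refine ext_of_isDominant (Spec.map sA) ?_
    rw [← cancel_mono V.ι]
    simp only [Category.assoc, IsOpenImmersion.lift_fac]
    rw [hh, reassoc_of% hgen]
  simpa using congrArg (· ≫ V.ι) heq

end DvrProperLib
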