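import Groth.Agent.DvrProperLib.Piece
import Groth.Agent.DvrProperLib.Completion
import Groth.Agent.DvrDom.Scheme
import Groth.Agent.ProConsLib.Sch
import Groth.Agent.UOpenLib.Criterion
import Groth.Agent.S2277

/-!
# A fibrewise component which is proper at a point is proper near that point
-/

set_option autoImplicit false

universe u

open CategoryTheory CategoryTheory.Limits AlgebraicGeometry TopologicalSpace

namespace DvrProperLib

/-- A component of a fibre of a morphism with locally Noetherian source is open and closed in it. -/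
theorem exists_open_closed_component {X Y : Scheme.{u}} [IsLocallyNoetherian X] (f : X ⟶ Y)
    (Z : Set X) (y₀ : Y) (x : X) (hx : f x = y₀)
    (hZ : Z ∩ f ⁻¹' {y₀} = connectedComponentIn (f ⁻¹' {y₀}) x) :
    ∃ (O : X.Opens) (Cc : Set X), IsClosed Cc ∧ (O : Set X) ∩ f ⁻¹' {y₀} = Z ∩ f ⁻¹' {y₀} ∧
      Cc ∩ f ⁻¹' {y₀} = Z ∩ f ⁻¹' {y₀} := by
  let F : Set X := f ⁻¹' {y₀}
  have hxF : x ∈ F := hx
  have : LocallyConnectedSpace F := by
    refine Groth.Agent.S2277.result F fun a ↦ ?_
    obtain ⟨_, ⟨W, hW, rfl⟩, haW, -⟩ :=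
      X.isBasis_affineOpens.exists_subset_of_mem_open (Set.mem_univ a.1) isOpen_univ
    have hW : IsAffineOpen W := hW
    have hNR : IsNoetherianRing Γ(X, W) := IsLocallyNoetherian.component_noetherian ⟨W, hW⟩
    have : NoetherianSpace ↥(W : Set X) := noetherianSpace_of_isAffineOpen W hW
    refine ⟨Subtype.val ⁻¹' (W : Set X), (W.isOpen.preimage continuous_subtype_val).mem_nhds haW, ?_⟩
    let ι : ↥(Subtype.val ⁻¹' (W : Set X) : Set F) → ↥(W : Set X) := fun b ↦ ⟨b.1.1, b.2⟩
    have hι : Topology.IsInducing ι := by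
      have h0 : Topology.IsInducing ((Subtype.val : F → X) ∘
          (Subtype.val : ↥(Subtype.val ⁻¹' (W : Set X) : Set F) → F)) :=
        Topology.IsInducing.subtypeVal.comp Topology.IsInducing.subtypeVal
      have h1 : Topology.IsInducing ((Subtype.val : ↥(W : Set X) → X) ∘ ι) := h0
      exact .of_comp (by fun_prop) continuous_subtype_val h1
    exact hι.noetherianSpace
  rw [connectedComponentIn_eq_image hxF] at hZ
  obtain ⟨O, hO, hOc⟩ := isOpen_induced_iff.mp (isOpen_connectedComponent (x := (⟨x, hxF⟩ : F)))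
  obtain ⟨Cc, hCc, hCcc⟩ :=
    isClosed_induced_iff.mp (isClosed_connectedComponent (x := (⟨x, hxF⟩ : F)))
  refine ⟨⟨O, hO⟩, Cc, hCc, ?_, ?_⟩
  · rw [hZ, ← hOc, Subtype.image_preimage_coe, Set.inter_comm]
    rfl
  · rw [hZ, ← hCcc, Subtype.image_preimage_coe, Set.inter_comm]

/-- Closed subsets of locally Noetherian schemes are locally constructible. -/
theorem isLocallyConstructible_of_isClosed {X : Scheme.{u}} [IsLocallyNoetherian X] {C : Set X}
    (hC : IsClosed C) : Topology.IsLocallyConstructible C := by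
  intro x
  obtain ⟨_, ⟨W, hW, rfl⟩, hxW, -⟩ :=
    X.isBasis_affineOpens.exists_subset_of_mem_open (Set.mem_univ x) isOpen_univ
  have hW : IsAffineOpen W := hW
  have hNR : IsNoetherianRing Γ(X, W) := IsLocallyNoetherian.component_noetherian ⟨W, hW⟩
  have : NoetherianSpace ↥(W : Set X) := noetherianSpace_of_isAffineOpen W hW
  refine ⟨W, W.isOpen.mem_nhds hxW, W.isOpen, ?_⟩
  have hopen : IsOpen (Subtype.val ⁻¹' Cᶜ : Set ↥(W : Set X)) :=
    hC.isOpen_compl.preimage continuous_subtype_val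
  have hret : IsRetrocompact (Subtype.val ⁻¹' Cᶜ : Set ↥(W : Set X)) :=
    fun V _ _ ↦ NoetherianSpace.isCompact _
  have hcon : Topology.IsConstructible (Subtype.val ⁻¹' Cᶜ : Set ↥(W : Set X)) :=
    hret.isConstructible hopen
  simpa using hcon.compl

/-- An injection of valuation rings extends to the fraction field. -/
theorem exists_field_map {K B : Type u} [Field K] [CommRing B] [IsDomain B] (A : ValuationSubring K)
    (ι : A →+* B) (hι : Function.Injective ι) :
    ∃ φ : K →+* FractionRing B, φ.comp A.subtype = (algebraMap B (FractionRing B)).comp ι := by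
  let g : A →+* FractionRing B := (algebraMap B (FractionRing B)).comp ι
  have hg : Function.Injective g :=
    (IsFractionRing.injective B (FractionRing B)).comp hι
  exact ⟨IsFractionRing.lift (A := A) (K := K) (L := FractionRing B) hg,
    RingHom.ext fun a ↦ IsFractionRing.lift_algebraMap (A := A) (K := K) (L := FractionRing B) hg a⟩

/-- First step: the closure is proper near `y`. -/
theorem exists_proper_closure_component {X Y : Scheme.{u}} [IsLocallyNoetherian Y] (y : Y)
    (f : X ⟶ Y) [IsSeparated f] [LocallyOfFiniteType f] [QuasiCompact f] (Z : Set X)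
    (hZ : Topology.IsLocallyConstructible Z)
    (h1 : ∀ y' : Y, y' ⤳ y →
      (∃ x ∈ Z, f.base x = y' ∧
        Z ∩ f.base ⁻¹' {y'} = connectedComponentIn (f.base ⁻¹' {y'}) x) ∧
      ∀ (K : Type u) [Field K] [Algebra (IsLocalRing.ResidueField (Y.presheaf.stalk y')) K],
        _root_.IsPreconnected
          ((FBase.bcπ (f.fiberToSpecResidueField y') K ≫ f.fiberι y').base ⁻¹' Z))
    (hop : IsOpen ((f.fiberι y).base ⁻¹' Z))
    (h2 : IsProper (Scheme.Opens.ι (⟨(f.fiberι y).base ⁻¹' Z, hop⟩ : (f.fiber y).Opens) ≫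
      f.fiberToSpecResidueField y))
    (h3 : ∀ (Y' : Scheme.{u}) (h : Y' ⟶ Y) (E : Set Y'), E ⊆ h.base ⁻¹' (f.base '' Z) →
      (∃ W : Set ↥(pullback f h), IsOpen W ∧
        W ∩ (pullback.fst f h).base ⁻¹' Z =
          (pullback.snd f h).base ⁻¹' E ∩ (pullback.fst f h).base ⁻¹' Z) →
      ∃ V : Set Y', IsOpen V ∧ V ∩ h.base ⁻¹' (f.base '' Z) = E) :
    ∃ U : Y.Opens, y ∈ U ∧ ∃ hC : IsClosed ((f ⁻¹ᵁ U).ι ⁻¹' closure Z),
      IsProper ((Scheme.IdealSheafData.vanishingIdeal
        (⟨(f ⁻¹ᵁ U).ι ⁻¹' closure Z, hC⟩ : Closeds ↥(f ⁻¹ᵁ U))).subschemeι ≫ (f ∣_ U)) := by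
  classical
  have : IsLocallyNoetherian X := LocallyOfFiniteType.isLocallyNoetherian f
  have : LocallyOfFinitePresentation f :=
    UOpenLib.locallyOfFinitePresentation_of_isLocallyNoetherian f
  let C := closure Z
  have himg : ∀ y', y' ⤳ y → y' ∈ f '' Z := fun y' hy' ↦ by
    obtain ⟨⟨x, hx, hfx, -⟩, -⟩ := h1 y' hy'
    exact ⟨x, hx, hfx⟩
  have hgenB : ∀ {B : Type u} [CommRing B] [IsDomain B] [IsDiscreteValuationRing B]
      (b : Spec (CommRingCat.of B) ⟶ Y),
      b (genericPoint (Spec (CommRingCat.of B))) ⤳ b (IsLocalRing.closedPoint B) :=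
    fun b ↦ ((genericPoint_spec _).specializes trivial).map b.continuous
  have hgenAlg : ∀ (B : Type u) [CommRing B] [IsDomain B],
      (Spec.map (CommRingCat.ofHom (algebraMap B (FractionRing B))))
        (IsLocalRing.closedPoint (FractionRing B)) = genericPoint (Spec (CommRingCat.of B)) := by
    intro B _ _
    rw [genericPoint_eq_bot_of_affine]
    apply PrimeSpectrum.ext
    show (IsLocalRing.maximalIdeal (FractionRing B)).comap (algebraMap B (FractionRing B)) = ⊥
    rw [IsLocalRing.maximalIdeal_eq_bot, ← RingHom.ker_eq_comap_bot]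
    exact (RingHom.injective_iff_ker_eq_bot _).mp (IsFractionRing.injective B (FractionRing B))
  refine exists_proper_trace f C isClosed_closure y fun z hz hmax A hA h hh hhy ↦ ?_
  have hzZ : z ∈ Z := by
    obtain ⟨w, hw, hwz⟩ := Groth.Agent.ProConsLib.exists_specializes_of_mem_closure_sch
      (Groth.Agent.ProConsLib.isProConstructible_of_isLocallyConstructible hZ) hz
    rwa [← hmax w (subset_closure hw) hwz]
  obtain ⟨B, _, _, _, _, ι, hιi, hιl⟩ := exists_completion A
  let L := FractionRing B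
  obtain ⟨φ, hφ⟩ := exists_field_map A ι hιi
  let b := Spec.map (CommRingCat.ofHom ι) ≫ h
  let aX : Spec (CommRingCat.of L) ⟶ X :=
    Spec.map (CommRingCat.ofHom φ) ≫ X.fromSpecResidueField z
  have hab : aX ≫ f = Spec.map (CommRingCat.ofHom (algebraMap B L)) ≫ b := by
    show (Spec.map (CommRingCat.ofHom φ) ≫ X.fromSpecResidueField z) ≫ f =
      Spec.map (CommRingCat.ofHom (algebraMap B L)) ≫ Spec.map (CommRingCat.ofHom ι) ≫ h
    rw [← Spec.map_comp_assoc, ← CommRingCat.ofHom_comp, ← hφ, CommRingCat.ofHom_comp,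
      Spec.map_comp, Category.assoc, Category.assoc]
    exact congrArg (Spec.map (CommRingCat.ofHom φ) ≫ ·) hh.symm
  have hb0 : b (IsLocalRing.closedPoint B) = y := by
    show h (PrimeSpectrum.comap ι (IsLocalRing.closedPoint B)) = y
    rw [IsLocalRing.comap_closedPoint]
    exact hhy
  have hb1 : b (genericPoint (Spec (CommRingCat.of B))) ⤳ y := hb0 ▸ hgenB b
  obtain ⟨x, hxZ, hxy, hcomp⟩ := (h1 y specializes_rfl).1
  obtain ⟨O, Cc, -, hO, -⟩ := exists_open_closed_component f Z y x hxy hcomp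
  let jC : Spec (CommRingCat.of (IsLocalRing.ResidueField B)) ⟶ Spec (CommRingCat.of B) :=
    Spec.map (CommRingCat.ofHom (IsLocalRing.residue B))
  have : IsClosedImmersion jC :=
    IsClosedImmersion.spec_of_surjective _ IsLocalRing.residue_surjective
  obtain ⟨φy, Φ, hΦ₁, hΦ, hΦr⟩ := exists_fibre_map f b (IsLocalRing.ResidueField B) jC
    (IsLocalRing.closedPoint B) (by
      show PrimeSpectrum.comap (IsLocalRing.residue B) (IsLocalRing.closedPoint _) = _
      exact IsLocalRing.comap_closedPoint _) y hb0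
  letI : Algebra (IsLocalRing.ResidueField (Y.presheaf.stalk y)) (IsLocalRing.ResidueField B) :=
    φy.hom.toAlgebra
  let Of : (f.fiber y).Opens := ⟨(f.fiberι y).base ⁻¹' Z, hop⟩
  let π := FBase.bcπ (f.fiberToSpecResidueField y) (IsLocalRing.ResidueField B)
  have hp : IsProper ((π ⁻¹ᵁ Of).ι ≫ FBase.bcStr (f.fiberToSpecResidueField y) _) :=
    MorphismProperty.of_isPullback ((isPullback_morphismRestrict π Of).paste_vert
      (IsPullback.of_hasPullback (f.fiberToSpecResidueField y)
        (Spec.map (CommRingCat.ofHom (algebraMap (IsLocalRing.ResidueField (Y.presheaf.stalk y))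
          (IsLocalRing.ResidueField B)))))) h2
  let k₀ := (π ⁻¹ᵁ Of).ι ≫ Φ
  have hk₀ : IsProper (k₀ ≫ pullback.snd f b) := by
    rw [Category.assoc, hΦ.w, ← Category.assoc]
    exact MorphismProperty.comp_mem @IsProper _ _ hp inferInstance
  let S := pullback.fst f b ⁻¹' Z ∩
    pullback.snd f b ⁻¹' {genericPoint (Spec (CommRingCat.of B))}
  let J := Scheme.IdealSheafData.vanishingIdeal
    (⟨closure S, isClosed_closure⟩ : Closeds ↥(pullback f b))
  let k := pullback.fst k₀ J.subschemeι ≫ k₀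
  have : IsProper (k ≫ pullback.snd f b) := by
    rw [Category.assoc]
    exact MorphismProperty.comp_mem @IsProper _ _ inferInstance hk₀
  have hk : Set.range k = pullback.fst f b ⁻¹' Z ∩
      pullback.snd f b ⁻¹' {IsLocalRing.closedPoint B} ∩ closure S := by
    rw [show (k : _ → _) = k₀ ∘ pullback.fst k₀ J.subschemeι from rfl, Set.range_comp,
      Scheme.Pullback.range_fst, range_subscheme_vanishingIdeal, Set.image_preimage_eq_inter_range,
      Set.inter_comm]
    refine congrArg (· ∩ closure S) ?_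
    rw [show (k₀ : _ → _) = Φ ∘ (π ⁻¹ᵁ Of).ι from rfl, Set.range_comp, Scheme.Opens.range_ι]
    ext w
    constructor
    · rintro ⟨v, hv, rfl⟩
      refine ⟨?_, hΦr.subset ⟨v, rfl⟩⟩
      show (Φ ≫ pullback.fst f b) v ∈ Z
      rw [hΦ₁]
      exact hv
    · rintro ⟨hw, hwe⟩
      obtain ⟨v, rfl⟩ := hΦr.ge hwe
      refine ⟨v, ?_, rfl⟩
      show (π ≫ f.fiberι y) v ∈ Z
      rw [← hΦ₁]
      exact hw
  obtain ⟨hJ, -⟩ := isProper_generic_closure f Z h3 b y _ hb0 rfl (himg y specializes_rfl)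
    (himg _ hb1) O hO (h1 _ hb1).2 k hk
  let a := pullback.lift aX (Spec.map (CommRingCat.ofHom (algebraMap B L))) hab
  have haS : Set.range a ⊆ Set.range J.subschemeι := by
    rintro _ ⟨v, rfl⟩
    rw [range_subscheme_vanishingIdeal]
    have hv : v = IsLocalRing.closedPoint L := Subsingleton.elim (α := PrimeSpectrum _) _ _
    refine subset_closure ⟨?_, ?_⟩
    · show (a ≫ pullback.fst f b) v ∈ Z
      rw [pullback.lift_fst]
      show X.fromSpecResidueField z _ ∈ Z
      rw [Scheme.fromSpecResidueField_apply]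
      exact hzZ
    · show (a ≫ pullback.snd f b) v = _
      rw [pullback.lift_snd, hv]
      exact hgenAlg B
  have hJ' : IsProper (J.subschemeι ≫ pullback.snd f b) := hJ
  obtain ⟨l, hl₁, hl₂⟩ := (DvrDomLib.dvrExistence_of_universallyClosed
    (J.subschemeι ≫ pullback.snd f b)).exists_lift B L
      (IsClosedImmersion.lift J.subschemeι a (ker_le_ker_of_range_subset _ _ haS)) (𝟙 _) (by
        rw [IsClosedImmersion.lift_fac_assoc, pullback.lift_snd, Category.comp_id])
  refine exists_lift_of_completion f z A h hh ι φ hφ (l ≫ J.subschemeι ≫ pullback.fst f b) ?_ ?_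
  · rw [Category.assoc, Category.assoc, pullback.condition, reassoc_of% hl₁]
  · rw [← Category.assoc, hl₂, IsClosedImmersion.lift_fac_assoc, pullback.lift_fst]

/-- Second step: near `y` the closure agrees with the set. -/
theorem mem_of_mem_closure_component {X Y : Scheme.{u}} [IsLocallyNoetherian Y] (y : Y)
    (f : X ⟶ Y) [IsSeparated f] [LocallyOfFiniteType f] [QuasiCompact f] (Z : Set X)
    (hZ : Topology.IsLocallyConstructible Z)
    (h1 : ∀ y' : Y, y' ⤳ y →
      (∃ x ∈ Z, f.base x = y' ∧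
        Z ∩ f.base ⁻¹' {y'} = connectedComponentIn (f.base ⁻¹' {y'}) x) ∧
      ∀ (K : Type u) [Field K] [Algebra (IsLocalRing.ResidueField (Y.presheaf.stalk y')) K],
        _root_.IsPreconnected
          ((FBase.bcπ (f.fiberToSpecResidueField y') K ≫ f.fiberι y').base ⁻¹' Z))
    (hop : IsOpen ((f.fiberι y).base ⁻¹' Z))
    (h2 : IsProper (Scheme.Opens.ι (⟨(f.fiberι y).base ⁻¹' Z, hop⟩ : (f.fiber y).Opens) ≫
      f.fiberToSpecResidueField y))
    (h3 : ∀ (Y' : Scheme.{u}) (h : Y' ⟶ Y) (E : Set Y'), E ⊆ h.base ⁻¹' (f.base '' Z) →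
      (∃ W : Set ↥(pullback f h), IsOpen W ∧
        W ∩ (pullback.fst f h).base ⁻¹' Z =
          (pullback.snd f h).base ⁻¹' E ∩ (pullback.fst f h).base ⁻¹' Z) →
      ∃ V : Set Y', IsOpen V ∧ V ∩ h.base ⁻¹' (f.base '' Z) = E)
    (U : Y.Opens) (hyU : y ∈ U) (hCU : IsClosed ((f ⁻¹ᵁ U).ι ⁻¹' closure Z))
    (hP : IsProper ((Scheme.IdealSheafData.vanishingIdeal
        (⟨(f ⁻¹ᵁ U).ι ⁻¹' closure Z, hCU⟩ : Closeds ↥(f ⁻¹ᵁ U))).subschemeι ≫ (f ∣_ U))) :
    ∀ x ∈ closure Z, f x ⤳ y → x ∈ Z := by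
  classical
  have : IsLocallyNoetherian X := LocallyOfFiniteType.isLocallyNoetherian f
  have : LocallyOfFinitePresentation f :=
    UOpenLib.locallyOfFinitePresentation_of_isLocallyNoetherian f
  let C := closure Z
  have himg : ∀ y', y' ⤳ y → y' ∈ f '' Z := fun y' hy' ↦ by
    obtain ⟨⟨x, hx, hfx, -⟩, -⟩ := h1 y' hy'
    exact ⟨x, hx, hfx⟩
  have hgenB : ∀ {B : Type u} [CommRing B] [IsDomain B] [IsDiscreteValuationRing B]
      (b : Spec (CommRingCat.of B) ⟶ Y),
      b (genericPoint (Spec (CommRingCat.of B))) ⤳ b (IsLocalRing.closedPoint B) :=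
    fun b ↦ ((genericPoint_spec _).specializes trivial).map b.continuous
  have hgenAlg : ∀ (B : Type u) [CommRing B] [IsDomain B],
      (Spec.map (CommRingCat.ofHom (algebraMap B (FractionRing B))))
        (IsLocalRing.closedPoint (FractionRing B)) = genericPoint (Spec (CommRingCat.of B)) := by
    intro B _ _
    rw [genericPoint_eq_bot_of_affine]
    apply PrimeSpectrum.ext
    show (IsLocalRing.maximalIdeal (FractionRing B)).comap (algebraMap B (FractionRing B)) = ⊥
    rw [IsLocalRing.maximalIdeal_eq_bot, ← RingHom.ker_eq_comap_bot]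
    exact (RingHom.injective_iff_ker_eq_bot _).mp (IsFractionRing.injective B (FractionRing B))
  intro x hxC hxy
  by_contra hxZ
  obtain ⟨z, hzZ, hzx⟩ := Groth.Agent.ProConsLib.exists_specializes_of_mem_closure_sch
    (Groth.Agent.ProConsLib.isProConstructible_of_isLocallyConstructible hZ) hxC
  obtain ⟨A, hA', hA, hAc, hAg⟩ := DvrDomLib.exists_dvr_through_specialization (𝟙 X) z x
    (by simpa using hzx) (by simpa using fun e : x = z ↦ hxZ (e ▸ hzZ))
  rw [Category.comp_id] at hAg
  obtain ⟨B, _, _, _, _, ι, hιi, hιl⟩ := exists_completion A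
  let bX := Spec.map (CommRingCat.ofHom ι) ≫ hA'
  let b := bX ≫ f
  have hbX0 : bX (IsLocalRing.closedPoint B) = x := by
    show hA' (PrimeSpectrum.comap ι (IsLocalRing.closedPoint B)) = x
    rw [IsLocalRing.comap_closedPoint]
    exact hAc
  have hb0 : b (IsLocalRing.closedPoint B) = f x := by
    show f (bX _) = f x
    rw [hbX0]
  have hbX1 : bX (genericPoint (Spec (CommRingCat.of B))) = z := by
    have h2 : PrimeSpectrum.comap ι (genericPoint (Spec (CommRingCat.of B))) =
        PrimeSpectrum.comap A.subtype (IsLocalRing.closedPoint (X.residueField z)) := by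
      rw [genericPoint_eq_bot_of_affine]
      apply PrimeSpectrum.ext
      show (⊥ : Ideal B).comap ι = (IsLocalRing.maximalIdeal (X.residueField z)).comap A.subtype
      rw [IsLocalRing.maximalIdeal_eq_bot, ← RingHom.ker_eq_comap_bot, ← RingHom.ker_eq_comap_bot,
        (RingHom.injective_iff_ker_eq_bot ι).mp hιi,
        (RingHom.injective_iff_ker_eq_bot A.subtype).mp Subtype.val_injective]
    show hA' (PrimeSpectrum.comap ι _) = z
    rw [h2]
    show (Spec.map (CommRingCat.ofHom A.subtype) ≫ hA') _ = z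
    rw [hAg]
    exact Scheme.fromSpecResidueField_apply _ _
  have hy0 : f x ⤳ y := hxy
  have hy1 : b (genericPoint (Spec (CommRingCat.of B))) ⤳ y := (hgenB b).trans (hb0 ▸ hy0)
  have hfxU : b (IsLocalRing.closedPoint B) ∈ U := hb0 ▸ hy0.mem_open U.isOpen hyU
  obtain ⟨w, hwZ, hwy, hcomp⟩ := (h1 (f x) hy0).1
  obtain ⟨O, Cc, hCc, hO, hCc'⟩ := exists_open_closed_component f Z (f x) w hwy hcomp
  let P := pullback f b
  let S := pullback.fst f b ⁻¹' Z ∩
    pullback.snd f b ⁻¹' {genericPoint (Spec (CommRingCat.of B))}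
  let J : P.IdealSheafData := Scheme.IdealSheafData.vanishingIdeal
    (⟨closure S, isClosed_closure⟩ : Closeds ↥P)
  have hrJ : Set.range J.subschemeι = closure S := range_subscheme_vanishingIdeal _
  have hJP : IsProper (J.subschemeι ≫ pullback.snd f b) := by
    let Jt : (f ⁻¹ᵁ U).toScheme.IdealSheafData :=
      Scheme.IdealSheafData.vanishingIdeal (⟨_, hCU⟩ : Closeds ↥(f ⁻¹ᵁ U))
    have hrt : Set.range Jt.subschemeι = (f ⁻¹ᵁ U).ι ⁻¹' C := range_subscheme_vanishingIdeal _
    have hP' : IsProper (Jt.subschemeι ≫ (f ∣_ U)) := hP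
    have hbr : Set.range b ⊆ Set.range U.ι := by
      rw [Scheme.Opens.range_ι]
      exact range_subset_of_closedPoint_mem b hfxU
    let bU := IsOpenImmersion.lift U.ι b hbr
    let Q := pullback (Jt.subschemeι ≫ (f ∣_ U)) bU
    let κ : Q ⟶ P := pullback.lift (pullback.fst _ _ ≫ Jt.subschemeι ≫ (f ⁻¹ᵁ U).ι)
      (pullback.snd _ _) (by
        simp only [Category.assoc]
        rw [← morphismRestrict_ι, ← Category.assoc Jt.subschemeι, pullback.condition_assoc,
          IsOpenImmersion.lift_fac])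
    let g := J.subschemeι ≫ pullback.fst f b
    have hgC : ∀ v, g v ∈ C ∧ f (g v) ∈ U := by
      intro v
      have hv : J.subschemeι v ∈ closure S := hrJ.subset ⟨v, rfl⟩
      refine ⟨closure_minimal (fun s hs ↦ ?_)
        (isClosed_closure.preimage (pullback.fst f b).continuous) hv, ?_⟩
      · exact subset_closure hs.1
      · show (pullback.fst f b ≫ f) (J.subschemeι v) ∈ U
        rw [pullback.condition, Scheme.Hom.comp_apply]
        exact range_subset_of_closedPoint_mem b hfxU ⟨_, rfl⟩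
    have hgr : Set.range g ⊆ Set.range (f ⁻¹ᵁ U).ι := by
      rw [Scheme.Opens.range_ι]
      rintro _ ⟨v, rfl⟩
      exact (hgC v).2
    let g₁ := IsOpenImmersion.lift (f ⁻¹ᵁ U).ι g hgr
    have : IsReduced J.subscheme := DevissLib.isReduced_vanishingIdeal' _
    have hg₁ : Set.range g₁ ⊆ Set.range Jt.subschemeι := by
      rintro _ ⟨v, rfl⟩
      rw [hrt]
      show (g₁ ≫ (f ⁻¹ᵁ U).ι) v ∈ C
      rw [IsOpenImmersion.lift_fac]
      exact (hgC v).1
    let g₂ := IsClosedImmersion.lift Jt.subschemeι g₁ (ker_le_ker_of_range_subset _ _ hg₁)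
    let m : J.subscheme ⟶ Q := pullback.lift g₂ (J.subschemeι ≫ pullback.snd f b) (by
      rw [IsClosedImmersion.lift_fac_assoc, ← cancel_mono U.ι, Category.assoc, morphismRestrict_ι,
        IsOpenImmersion.lift_fac_assoc, Category.assoc, Category.assoc, IsOpenImmersion.lift_fac]
      simp only [g, Category.assoc, pullback.condition])
    have hm : m ≫ κ = J.subschemeι := by
      refine pullback.hom_ext ?_ ?_
      · simp only [m, κ, Category.assoc, pullback.lift_fst, pullback.lift_fst_assoc]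
        rw [IsClosedImmersion.lift_fac_assoc, IsOpenImmersion.lift_fac]
      · simp only [m, κ, Category.assoc, pullback.lift_snd]
    have : IsSeparated (κ ≫ pullback.snd f b) := by
      rw [pullback.lift_snd]
      infer_instance
    have : IsSeparated κ := IsSeparated.of_comp κ (pullback.snd f b)
    have : IsClosedImmersion (m ≫ κ) := by rw [hm]; infer_instance
    have : IsClosedImmersion m := IsClosedImmersion.of_comp m κ
    have h2 : J.subschemeι ≫ pullback.snd f b = m ≫ pullback.snd _ _ :=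
      (pullback.lift_snd _ _ _).symm
    rw [h2]
    exact MorphismProperty.comp_mem @IsProper _ _ inferInstance inferInstance
  have hKc : IsClosed (pullback.fst f b ⁻¹' Cc ∩
      pullback.snd f b ⁻¹' {IsLocalRing.closedPoint B} ∩ closure S) :=
    ((hCc.preimage (pullback.fst f b).continuous).inter
      ((IsLocalRing.isClosed_singleton_closedPoint B).preimage
        (pullback.snd f b).continuous)).inter isClosed_closure
  let K : P.IdealSheafData := Scheme.IdealSheafData.vanishingIdeal (⟨_, hKc⟩ : Closeds ↥P)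
  have : IsProper (K.subschemeι ≫ pullback.snd f b) := by
    have : IsReduced K.subscheme := DevissLib.isReduced_vanishingIdeal' _
    have hK : Set.range K.subschemeι ⊆ Set.range J.subschemeι := by
      rw [hrJ, range_subscheme_vanishingIdeal]
      exact fun w hw ↦ hw.2
    let i := IsClosedImmersion.lift J.subschemeι K.subschemeι (ker_le_ker_of_range_subset _ _ hK)
    have hi : i ≫ J.subschemeι = K.subschemeι := IsClosedImmersion.lift_fac _ _ _
    have : IsClosedImmersion (i ≫ J.subschemeι) := by rw [hi]; infer_instance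
    have : IsClosedImmersion i := IsClosedImmersion.of_comp i J.subschemeι
    rw [← hi, Category.assoc]
    exact MorphismProperty.comp_mem @IsProper _ _ inferInstance hJP
  have hk : Set.range K.subschemeι = pullback.fst f b ⁻¹' Z ∩
      pullback.snd f b ⁻¹' {IsLocalRing.closedPoint B} ∩ closure S := by
    rw [range_subscheme_vanishingIdeal]
    ext p
    have key : pullback.snd f b p = IsLocalRing.closedPoint B →
        (pullback.fst f b p ∈ Cc ↔ pullback.fst f b p ∈ Z) := fun hp ↦ by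
      have hfy : f (pullback.fst f b p) = f x := by
        rw [← Scheme.Hom.comp_apply, pullback.condition, Scheme.Hom.comp_apply, hp, hb0]
      exact ⟨fun h ↦ (hCc'.le ⟨h, hfy⟩).1, fun h ↦ (hCc'.ge ⟨h, hfy⟩).1⟩
    constructor
    · rintro ⟨⟨h, he⟩, hc⟩
      exact ⟨⟨(key he).mp h, he⟩, hc⟩
    · rintro ⟨⟨h, he⟩, hc⟩
      exact ⟨⟨(key he).mpr h, he⟩, hc⟩
  obtain ⟨-, hsub⟩ := isProper_generic_closure f Z h3 b (f x) _ hb0 rfl (himg _ hy0)
    (himg _ hy1) O hO (h1 _ hy1).2 K.subschemeι hk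
  let σ : Spec (CommRingCat.of B) ⟶ P := pullback.lift bX (𝟙 _) (by simp [b])
  have hσS : σ (genericPoint (Spec (CommRingCat.of B))) ∈ S := by
    refine ⟨?_, ?_⟩
    · show (σ ≫ pullback.fst f b) _ ∈ Z
      rw [pullback.lift_fst, hbX1]
      exact hzZ
    · show (σ ≫ pullback.snd f b) _ = _
      rw [pullback.lift_snd]
      rfl
  have hσe : σ (IsLocalRing.closedPoint B) ∈ closure S :=
    (((genericPoint_spec _).specializes trivial).map σ.continuous).mem_closed isClosed_closure
      (subset_closure hσS)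
  have h4 := hsub _ hσe (by
    show (σ ≫ pullback.snd f b) _ = _
    rw [pullback.lift_snd]
    rfl)
  refine hxZ ?_
  rw [← hbX0]
  have h5 : (σ ≫ pullback.fst f b) (IsLocalRing.closedPoint B) ∈ Z := h4
  rwa [pullback.lift_fst] at h5

theorem exists_proper_component {X Y : Scheme.{u}} [IsLocallyNoetherian Y] (y : Y)
    (f : X ⟶ Y) [IsSeparated f] [LocallyOfFiniteType f] [QuasiCompact f] (Z : Set X)
    (hZ : Topology.IsLocallyConstructible Z)
    (h1 : ∀ y' : Y, y' ⤳ y →
      (∃ x ∈ Z, f.base x = y' ∧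
        Z ∩ f.base ⁻¹' {y'} = connectedComponentIn (f.base ⁻¹' {y'}) x) ∧
      ∀ (K : Type u) [Field K] [Algebra (IsLocalRing.ResidueField (Y.presheaf.stalk y')) K],
        _root_.IsPreconnected
          ((FBase.bcπ (f.fiberToSpecResidueField y') K ≫ f.fiberι y').base ⁻¹' Z))
    (hop : IsOpen ((f.fiberι y).base ⁻¹' Z))
    (h2 : IsProper (Scheme.Opens.ι (⟨(f.fiberι y).base ⁻¹' Z, hop⟩ : (f.fiber y).Opens) ≫
      f.fiberToSpecResidueField y))
    (h3 : ∀ (Y' : Scheme.{u}) (h : Y' ⟶ Y) (E : Set Y'), E ⊆ h.base ⁻¹' (f.base '' Z) →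
      (∃ W : Set ↥(pullback f h), IsOpen W ∧
        W ∩ (pullback.fst f h).base ⁻¹' Z =
          (pullback.snd f h).base ⁻¹' E ∩ (pullback.fst f h).base ⁻¹' Z) →
      ∃ V : Set Y', IsOpen V ∧ V ∩ h.base ⁻¹' (f.base '' Z) = E) :
    ∃ U : Y.Opens, y ∈ U ∧ ∃ hC : IsClosed ((f ⁻¹ᵁ U).ι.base ⁻¹' Z),
      IsProper ((Scheme.IdealSheafData.vanishingIdeal
        (⟨(f ⁻¹ᵁ U).ι.base ⁻¹' Z, hC⟩ : Closeds ↥(f ⁻¹ᵁ U))).subschemeι ≫ (f ∣_ U)) := by
  classical
  have : IsLocallyNoetherian X := LocallyOfFiniteType.isLocallyNoetherian f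
  have : LocallyOfFinitePresentation f :=
    UOpenLib.locallyOfFinitePresentation_of_isLocallyNoetherian f
  let C := closure Z
  have himg : ∀ y', y' ⤳ y → y' ∈ f '' Z := fun y' hy' ↦ by
    obtain ⟨⟨x, hx, hfx, -⟩, -⟩ := h1 y' hy'
    exact ⟨x, hx, hfx⟩
  obtain ⟨U, hyU, hCU, hP⟩ := exists_proper_closure_component y f Z hZ h1 hop h2 h3
  have hbad := mem_of_mem_closure_component y f Z hZ h1 hop h2 h3 U hyU hCU hP
  -- shrink
  let Bad : Set X := C \ Z
  have hBad : Topology.IsLocallyConstructible Bad :=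
    (isLocallyConstructible_of_isClosed isClosed_closure).inter
      (Groth.Agent.ProConsLib.isLocallyConstructible_compl hZ)
  have hyBad : y ∉ closure (f '' Bad) := by
    intro hy
    obtain ⟨_, ⟨x, ⟨hxC, hxZ⟩, rfl⟩, hxy⟩ :=
      Groth.Agent.ProConsLib.exists_specializes_of_mem_closure_sch
        (Groth.Agent.ProConsLib.isProConstructible_of_isLocallyConstructible
          (f.isLocallyConstructible_image hBad)) hy
    exact hxZ (hbad x hxC hxy)
  let U' : Y.Opens := U ⊓ ⟨(closure (f '' Bad))ᶜ, isClosed_closure.isOpen_compl⟩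
  have heq : (f ⁻¹ᵁ U').ι ⁻¹' C = (f ⁻¹ᵁ U').ι ⁻¹' Z := by
    ext w
    refine ⟨fun hw ↦ by_contra fun hn ↦ w.2.2 (subset_closure ⟨_, ⟨hw, hn⟩, rfl⟩),
      fun hw ↦ subset_closure hw⟩
  have hcl : IsClosed ((f ⁻¹ᵁ U').ι ⁻¹' C) := isClosed_closure.preimage (f ⁻¹ᵁ U').ι.continuous
  have hfin := isProper_trace f C isClosed_closure U' hcl fun A _ _ _ a b ha hb hab ↦
    exists_lift_of_isProper_trace f C U hCU hP A (FractionRing A) a b ha hb.1 hab
  refine ⟨U', ⟨hyU, hyBad⟩, heq ▸ hcl, ?_⟩
  have he : (⟨(f ⁻¹ᵁ U').ι ⁻¹' C, hcl⟩ : Closeds ↥(f ⁻¹ᵁ U')) =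
      ⟨(f ⁻¹ᵁ U').ι ⁻¹' Z, heq ▸ hcl⟩ := Closeds.ext heq
  rw [he] at hfin
  exact hfin

end DvrProperLib
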