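import Groth.Agent.DvrDom.Criteria
import Mathlib.AlgebraicGeometry.Morphisms.Proper
import Mathlib.AlgebraicGeometry.ResidueField

/-!
# Lifting discrete valuation rings centred in an open over which a morphism is proper
-/

set_option autoImplicit false

universe u

open CategoryTheory CategoryTheory.Limits AlgebraicGeometry TopologicalSpace

namespace DvrProperLib

theorem range_subset_of_closedPoint_mem {A : Type u} [CommRing A] [IsLocalRing A] {Y : Scheme.{u}}
    (b : Spec (CommRingCat.of A) ⟶ Y) {U : Y.Opens} (hb : b (IsLocalRing.closedPoint A) ∈ U) :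
    Set.range b ⊆ (U : Set Y) := by
  rintro _ ⟨w, rfl⟩
  exact ((IsLocalRing.specializes_closedPoint (R := A) w).map b.continuous).mem_open U.isOpen hb

theorem exists_lift_of_isProper_restrict {W Y : Scheme.{u}} (g : W ⟶ Y) (U : Y.Opens)
    [IsProper (g ∣_ U)] (A : Type u) [CommRing A] [IsDomain A] [IsDiscreteValuationRing A]
    (K : Type u) [Field K] [Algebra A K] [IsFractionRing A K]
    (a : Spec (CommRingCat.of K) ⟶ W) (b : Spec (CommRingCat.of A) ⟶ Y)
    (hb : b (IsLocalRing.closedPoint A) ∈ U)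
    (w : a ≫ g = Spec.map (CommRingCat.ofHom (algebraMap A K)) ≫ b) :
    ∃ l : Spec (CommRingCat.of A) ⟶ W, l ≫ g = b ∧
      Spec.map (CommRingCat.ofHom (algebraMap A K)) ≫ l = a := by
  have hbr := range_subset_of_closedPoint_mem b hb
  have har : Set.range a ⊆ Set.range (g ⁻¹ᵁ U).ι := by
    rintro _ ⟨x, rfl⟩
    rw [Scheme.Opens.range_ι]
    show (a ≫ g) x ∈ U
    rw [w]
    exact hbr ⟨_, rfl⟩
  let a' := IsOpenImmersion.lift (g ⁻¹ᵁ U).ι a har
  let b' := IsOpenImmersion.lift U.ι b (by rw [Scheme.Opens.range_ι]; exact hbr)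
  obtain ⟨l, hl₁, hl₂⟩ :=
    (DvrDomLib.dvrExistence_of_universallyClosed (g ∣_ U)).exists_lift A K a' b' (by
      rw [← cancel_mono U.ι, Category.assoc, morphismRestrict_ι, IsOpenImmersion.lift_fac_assoc,
        Category.assoc, IsOpenImmersion.lift_fac, w])
  refine ⟨l ≫ (g ⁻¹ᵁ U).ι, ?_, ?_⟩
  · rw [Category.assoc, ← morphismRestrict_ι, ← Category.assoc, hl₁, IsOpenImmersion.lift_fac]
  · rw [← Category.assoc, hl₂, IsOpenImmersion.lift_fac]

/-- Two points with values in a field at the same point `p` agree if their composites with a map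
which is an isomorphism on the residue field at `p` agree. -/
theorem hom_ext_of_residueFieldMap_bijective {K : Type u} [Field K] {P T : Scheme.{u}} (q : P ⟶ T)
    (p : P) (hq : Function.Bijective (q.residueFieldMap p).hom)
    (a b : Spec (CommRingCat.of K) ⟶ P) (ha : a (IsLocalRing.closedPoint K) = p)
    (hb : b (IsLocalRing.closedPoint K) = p) (h : a ≫ q = b ≫ q) : a = b := by
  have key : ∀ c : Spec (CommRingCat.of K) ⟶ P, c (IsLocalRing.closedPoint K) = p →
      ∃ φ : P.residueField p ⟶ CommRingCat.of K, c = Spec.map φ ≫ P.fromSpecResidueField p := by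
    intro c hc
    subst hc
    exact ⟨_, ((Scheme.SpecToEquivOfField K P).left_inv c).symm⟩
  obtain ⟨φ₁, rfl⟩ := key a ha
  obtain ⟨φ₂, rfl⟩ := key b hb
  rw [Category.assoc, Category.assoc, ← Scheme.Hom.SpecMap_residueFieldMap_fromSpecResidueField,
    ← Category.assoc, ← Category.assoc, cancel_mono, ← Spec.map_comp, ← Spec.map_comp] at h
  have h2 := Spec.map_injective h
  have : φ₁ = φ₂ := by
    ext x
    obtain ⟨z, rfl⟩ := hq.2 x
    exact DFunLike.congr_fun (congrArg CommRingCat.Hom.hom h2) z
  rw [this]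

end DvrProperLib
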