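import Groth.Agent.DvrProperLib.Core
import Groth.Agent.DvrProperLib.Lift
import Groth.Agent.DvrDom.Points
import Groth.Agent.DevissLib.ClosedImm

/-!
# Properness near a point of a closed subset, tested on discrete valuation rings
-/

set_option autoImplicit false

universe u

open CategoryTheory CategoryTheory.Limits AlgebraicGeometry TopologicalSpace

namespace DvrProperLib

/-- A morphism from a reduced scheme whose image lies in a closed subscheme factors through it. -/
theorem ker_le_ker_of_range_subset {W Z X : Scheme.{u}} (j : Z ⟶ X) [IsClosedImmersion j]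
    (g : W ⟶ X) [IsReduced W] (h : Set.range g ⊆ Set.range j) : j.ker ≤ g.ker := by
  let S : Closeds X := ⟨Set.range j, j.isClosedEmbedding.isClosed_range⟩
  refine le_trans (Scheme.IdealSheafData.le_support_iff_le_vanishingIdeal.mp
    (fun x hx ↦ ?_ : S ≤ j.ker.support)) ?_
  · show x ∈ (j.ker.support : Set X)
    rw [Scheme.Hom.support_ker]
    exact subset_closure hx
  refine Scheme.IdealSheafData.le_ofIdeals_iff.2 fun U s hs => ?_
  rw [Scheme.IdealSheafData.vanishingIdeal_ideal, PrimeSpectrum.mem_vanishingIdeal] at hs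
  rw [RingHom.mem_ker]
  refine eq_zero_of_basicOpen_eq_bot _ (eq_bot_iff.2 fun w hw => ?_)
  exfalso
  rw [← Scheme.preimage_basicOpen] at hw
  have hwU : g w ∈ U.1 := X.basicOpen_le s hw
  let p := U.2.primeIdealOf ⟨g w, hwU⟩
  have hp : U.2.fromSpec p = g w := U.2.fromSpec_primeIdealOf ⟨g w, hwU⟩
  have hsp := hs p (by change U.2.fromSpec p ∈ (S : Set X); rw [hp]; exact h ⟨w, rfl⟩)
  have : p ∈ U.2.fromSpec ⁻¹ᵁ X.basicOpen s := by
    change U.2.fromSpec p ∈ X.basicOpen s
    rw [hp]; exact hw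
  rw [U.2.fromSpec_preimage_basicOpen] at this
  exact this hsp

theorem range_subscheme_vanishingIdeal {X : Scheme.{u}} (S : Closeds X) :
    Set.range (Scheme.IdealSheafData.vanishingIdeal S).subschemeι = (S : Set X) := by
  rw [Scheme.IdealSheafData.range_subschemeι]
  simp [Scheme.IdealSheafData.coe_support_vanishingIdeal, S.isClosed.closure_eq]

theorem residueFieldMap_bijective {X Y : Scheme.{u}} (i : X ⟶ Y) [IsPreimmersion i] (x : X) :
    Function.Bijective (i.residueFieldMap x).hom := by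
  refine ⟨RingHom.injective _, fun z ↦ ?_⟩
  obtain ⟨s, rfl⟩ := X.residue_surjective x z
  obtain ⟨t, rfl⟩ := i.stalkMap_surjective x s
  exact ⟨Y.residue (i x) t, DFunLike.congr_fun (congrArg CommRingCat.Hom.hom
    (Scheme.residue_residueFieldMap i x)) t⟩

/-- The points of a discrete valuation ring with generic point in a closed set. -/
theorem range_subset_of_isClosed {A K : Type u} [CommRing A] [IsDomain A] [Field K] [Algebra A K]
    [IsFractionRing A K] {X : Scheme.{u}} (l : Spec (CommRingCat.of A) ⟶ X) {C : Set X}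
    (hC : IsClosed C)
    (h : (Spec.map (CommRingCat.ofHom (algebraMap A K)) ≫ l) (IsLocalRing.closedPoint K) ∈ C) :
    Set.range l ⊆ C := by
  have hd : DenseRange (Spec.map (CommRingCat.ofHom (algebraMap A K))) :=
    (PrimeSpectrum.denseRange_comap_iff_ker_le_nilRadical _).mpr (by
      have h0 : RingHom.ker (algebraMap A K) = ⊥ :=
        (RingHom.injective_iff_ker_eq_bot _).mp (IsFractionRing.injective A K)
      exact h0.le.trans bot_le)
  rintro _ ⟨w, rfl⟩
  refine closure_minimal ?_ hC (image_closure_subset_closure_image l.continuous ⟨w, hd w, rfl⟩)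
  rintro _ ⟨_, ⟨v, rfl⟩, rfl⟩
  have hv : v = IsLocalRing.closedPoint K := Subsingleton.elim (α := PrimeSpectrum _) _ _
  rw [hv]
  exact h

/-- If discrete valuation rings with generic point in the closed set `C` and centred in `U` have
centres, the trace of `C` over `U` is proper over `U`. -/
theorem isProper_trace {X Y : Scheme.{u}} [IsLocallyNoetherian Y] (f : X ⟶ Y) [IsSeparated f]
    [LocallyOfFiniteType f] [QuasiCompact f] (C : Set X) (hC : IsClosed C) (U : Y.Opens)
    (hU : IsClosed ((f ⁻¹ᵁ U).ι ⁻¹' C))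
    (H : ∀ (A : Type u) [CommRing A] [IsDomain A] [IsDiscreteValuationRing A]
      (a : Spec (CommRingCat.of (FractionRing A)) ⟶ X) (b : Spec (CommRingCat.of A) ⟶ Y),
      a (IsLocalRing.closedPoint (FractionRing A)) ∈ C → b (IsLocalRing.closedPoint A) ∈ U →
      a ≫ f = Spec.map (CommRingCat.ofHom (algebraMap A (FractionRing A))) ≫ b →
      ∃ l : Spec (CommRingCat.of A) ⟶ X, l ≫ f = b ∧
        Spec.map (CommRingCat.ofHom (algebraMap A (FractionRing A))) ≫ l = a) :
    IsProper ((Scheme.IdealSheafData.vanishingIdeal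
      (⟨(f ⁻¹ᵁ U).ι ⁻¹' C, hU⟩ : Closeds ↥(f ⁻¹ᵁ U))).subschemeι ≫ (f ∣_ U)) := by
  let J : (f ⁻¹ᵁ U).toScheme.IdealSheafData :=
    Scheme.IdealSheafData.vanishingIdeal (⟨_, hU⟩ : Closeds ↥(f ⁻¹ᵁ U))
  have : IsSeparated (f ∣_ U) :=
    MorphismProperty.of_isPullback (isPullback_morphismRestrict f U).flip ‹_›
  have : LocallyOfFiniteType (f ∣_ U) :=
    MorphismProperty.of_isPullback (isPullback_morphismRestrict f U).flip ‹_›
  have : QuasiCompact (f ∣_ U) :=
    MorphismProperty.of_isPullback (isPullback_morphismRestrict f U).flip ‹_›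
  have : IsLocallyNoetherian U.toScheme := isLocallyNoetherian_of_isOpenImmersion U.ι
  have hrJ : Set.range J.subschemeι = (f ⁻¹ᵁ U).ι ⁻¹' C := range_subscheme_vanishingIdeal _
  have : UniversallyClosed (J.subschemeι ≫ (f ∣_ U)) := by
    refine DvrDomLib.universallyClosed_of_dvrExistence _ ?_
    intro A _ _ _ a b hab
    have hsub := range_subset_of_closedPoint_mem (b ≫ U.ι) (U := U)
      (b (IsLocalRing.closedPoint A)).2
    obtain ⟨l, hl₁, hl₂⟩ := H A (a ≫ J.subschemeι ≫ (f ⁻¹ᵁ U).ι) (b ≫ U.ι) (by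
        have h1 := Set.mem_range_self (f := J.subschemeι) (a (IsLocalRing.closedPoint _))
        rw [hrJ] at h1
        exact h1)
      (hsub ⟨_, rfl⟩) (by
        simp only [Category.assoc]
        rw [← morphismRestrict_ι, ← Category.assoc J.subschemeι, ← Category.assoc a, hab,
          Category.assoc])
    have hlr : Set.range l ⊆ Set.range (f ⁻¹ᵁ U).ι := by
      rintro _ ⟨v, rfl⟩
      rw [Scheme.Opens.range_ι]
      show (l ≫ f) v ∈ U
      rw [hl₁]
      exact hsub ⟨v, rfl⟩
    let l'' := IsOpenImmersion.lift (f ⁻¹ᵁ U).ι l hlr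
    have hlC : Set.range l ⊆ C := range_subset_of_isClosed (K := FractionRing A) l hC (by
      rw [hl₂]
      have h1 := Set.mem_range_self (f := J.subschemeι) (a (IsLocalRing.closedPoint _))
      rw [hrJ] at h1
      exact h1)
    have hl''r : Set.range l'' ⊆ Set.range J.subschemeι := by
      rintro _ ⟨v, rfl⟩
      rw [hrJ]
      show (l'' ≫ (f ⁻¹ᵁ U).ι) v ∈ C
      rw [IsOpenImmersion.lift_fac]
      exact hlC ⟨v, rfl⟩
    refine ⟨IsClosedImmersion.lift J.subschemeι l'' (ker_le_ker_of_range_subset _ _ hl''r), ?_, ?_⟩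
    · rw [IsClosedImmersion.lift_fac_assoc, ← cancel_mono U.ι, Category.assoc, morphismRestrict_ι,
        IsOpenImmersion.lift_fac_assoc, hl₁]
    · rw [← cancel_mono J.subschemeι, ← cancel_mono (f ⁻¹ᵁ U).ι, Category.assoc, Category.assoc,
        IsClosedImmersion.lift_fac_assoc, IsOpenImmersion.lift_fac, hl₂, Category.assoc]
  show IsProper (J.subschemeι ≫ (f ∣_ U))
  exact { }

/-- The valuative criterion for a proper trace of a closed set. -/
theorem exists_lift_of_isProper_trace {X Y : Scheme.{u}} (f : X ⟶ Y) (C : Set X) (U : Y.Opens)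
    (hU : IsClosed ((f ⁻¹ᵁ U).ι ⁻¹' C))
    (hP : IsProper ((Scheme.IdealSheafData.vanishingIdeal
      (⟨(f ⁻¹ᵁ U).ι ⁻¹' C, hU⟩ : Closeds ↥(f ⁻¹ᵁ U))).subschemeι ≫ (f ∣_ U)))
    (A : Type u) [CommRing A] [IsDomain A] [IsDiscreteValuationRing A] (K : Type u) [Field K]
    [Algebra A K] [IsFractionRing A K]
    (a : Spec (CommRingCat.of K) ⟶ X) (b : Spec (CommRingCat.of A) ⟶ Y)
    (ha : a (IsLocalRing.closedPoint K) ∈ C) (hb : b (IsLocalRing.closedPoint A) ∈ U)
    (w : a ≫ f = Spec.map (CommRingCat.ofHom (algebraMap A K)) ≫ b) :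
    ∃ l : Spec (CommRingCat.of A) ⟶ X, l ≫ f = b ∧
      Spec.map (CommRingCat.ofHom (algebraMap A K)) ≫ l = a := by
  let J : (f ⁻¹ᵁ U).toScheme.IdealSheafData :=
    Scheme.IdealSheafData.vanishingIdeal (⟨_, hU⟩ : Closeds ↥(f ⁻¹ᵁ U))
  have hP' : IsProper (J.subschemeι ≫ (f ∣_ U)) := hP
  have hbr := range_subset_of_closedPoint_mem b hb
  have har : Set.range a ⊆ Set.range (f ⁻¹ᵁ U).ι := by
    rintro _ ⟨x, rfl⟩
    rw [Scheme.Opens.range_ι]
    show (a ≫ f) x ∈ U
    rw [w]
    exact hbr ⟨_, rfl⟩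
  let a' := IsOpenImmersion.lift (f ⁻¹ᵁ U).ι a har
  have hrJ : Set.range J.subschemeι = (f ⁻¹ᵁ U).ι ⁻¹' C := range_subscheme_vanishingIdeal _
  have ha'r : Set.range a' ⊆ Set.range J.subschemeι := by
    rintro _ ⟨v, rfl⟩
    rw [hrJ]
    show (a' ≫ (f ⁻¹ᵁ U).ι) v ∈ C
    rw [IsOpenImmersion.lift_fac, show v = IsLocalRing.closedPoint K from
      Subsingleton.elim (α := PrimeSpectrum _) _ _]
    exact ha
  let aT := IsClosedImmersion.lift J.subschemeι a' (ker_le_ker_of_range_subset _ _ ha'r)
  let b' := IsOpenImmersion.lift U.ι b (by rw [Scheme.Opens.range_ι]; exact hbr)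
  obtain ⟨l, hl₁, hl₂⟩ := (DvrDomLib.dvrExistence_of_universallyClosed
    (J.subschemeι ≫ (f ∣_ U))).exists_lift A K aT b' (by
      rw [IsClosedImmersion.lift_fac_assoc, ← cancel_mono U.ι, Category.assoc, morphismRestrict_ι,
        IsOpenImmersion.lift_fac_assoc, Category.assoc, IsOpenImmersion.lift_fac, w])
  refine ⟨l ≫ J.subschemeι ≫ (f ⁻¹ᵁ U).ι, ?_, ?_⟩
  · simp only [Category.assoc]
    rw [← morphismRestrict_ι, ← Category.assoc J.subschemeι, ← Category.assoc l, hl₁,
      IsOpenImmersion.lift_fac]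
  · rw [← Category.assoc, hl₂, IsClosedImmersion.lift_fac_assoc, IsOpenImmersion.lift_fac]

/-- If the discrete valuation rings of the residue fields of the maximal points of a closed set
`C` which are centred at `y` have centres in `X`, then `C` is proper over a neighbourhood of
`y`. -/
theorem exists_proper_trace {X Y : Scheme.{u}} [IsLocallyNoetherian Y] (f : X ⟶ Y) [IsSeparated f]
    [LocallyOfFiniteType f] [QuasiCompact f] (C : Set X) (hC : IsClosed C) (y : Y)
    (H : ∀ z ∈ C, (∀ z' ∈ C, z' ⤳ z → z' = z) →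
      ∀ A : ValuationSubring (X.residueField z), IsDiscreteValuationRing A →
        ∀ h : Spec (CommRingCat.of A) ⟶ Y,
          Spec.map (CommRingCat.ofHom A.subtype) ≫ h = X.fromSpecResidueField z ≫ f →
          h (IsLocalRing.closedPoint A) = y →
          ∃ l : Spec (CommRingCat.of A) ⟶ X, l ≫ f = h ∧
            Spec.map (CommRingCat.ofHom A.subtype) ≫ l = X.fromSpecResidueField z) :
    ∃ U : Y.Opens, y ∈ U ∧ ∃ hC : IsClosed ((f ⁻¹ᵁ U).ι ⁻¹' C),
      IsProper ((Scheme.IdealSheafData.vanishingIdeal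
        (⟨(f ⁻¹ᵁ U).ι ⁻¹' C, hC⟩ : Closeds ↥(f ⁻¹ᵁ U))).subschemeι ≫ (f ∣_ U)) := by
  classical
  obtain ⟨V, hV, hyV⟩ : ∃ V : Y.Opens, IsAffineOpen V ∧ y ∈ V := by
    obtain ⟨_, ⟨V, hV, rfl⟩, hyV, -⟩ :=
      Y.isBasis_affineOpens.exists_subset_of_mem_open (Set.mem_univ y) isOpen_univ
    exact ⟨V, hV, hyV⟩
  have : IsLocallyNoetherian X := LocallyOfFiniteType.isLocallyNoetherian f
  let I := Scheme.IdealSheafData.vanishingIdeal (⟨C, hC⟩ : Closeds X)
  have : IsLocallyNoetherian I.subscheme := LocallyOfFiniteType.isLocallyNoetherian I.subschemeι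
  let Ω : I.subscheme.Opens := (I.subschemeι ≫ f) ⁻¹ᵁ V
  have hΩ : IsCompact (Ω : Set I.subscheme) :=
    QuasiCompact.isCompact_preimage (f := I.subschemeι ≫ f) _ V.isOpen hV.isCompact
  have : CompactSpace Ω.toScheme := isCompact_iff_compactSpace.mp hΩ
  have : IsLocallyNoetherian Ω.toScheme := isLocallyNoetherian_of_isOpenImmersion Ω.ι
  have : IsNoetherian Ω.toScheme := ⟨⟩
  let E : Set I.subscheme := {η | η ∈ Ω ∧ closure {η} ∈ irreducibleComponents I.subscheme}
  have hE : E.Finite := by
    have hfin : {η : Ω.toScheme | closure {η} ∈ irreducibleComponents Ω.toScheme}.Finite := by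
      refine Set.Finite.of_finite_image (f := fun η ↦ closure {η}) ?_ ?_
      · exact NoetherianSpace.finite_irreducibleComponents.subset
          (by rintro _ ⟨η, hη, rfl⟩; exact hη)
      · intro a _ b _ hab
        exact (show IsGenericPoint a (closure {b}) from hab).eq (isGenericPoint_closure (x := b))
    refine (hfin.image Ω.ι).subset ?_
    rintro η ⟨hηΩ, hη⟩
    refine ⟨(⟨η, hηΩ⟩ : Ω.toScheme), ?_, rfl⟩
    refine ⟨isIrreducible_singleton.closure, fun T hT hle ↦ ?_⟩
    have h1 : Ω.ι '' T ⊆ closure {η} := by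
      have h2 := hη.2 (hT.image _ Ω.ι.continuous.continuousOn).closure (closure_minimal
        (Set.singleton_subset_iff.mpr (subset_closure ⟨_, hle (subset_closure rfl), rfl⟩))
        isClosed_closure)
      exact subset_closure.trans h2
    intro t ht
    exact specializes_iff_mem_closure.mp
      (Ω.ι.isEmbedding.isInducing.specializes_iff.mp
        (specializes_iff_mem_closure.mpr (h1 ⟨t, ht, rfl⟩)))
  have key : ∀ η ∈ E, ∃ (W : Scheme.{u}) (i : W ⟶ X) (U : Y.Opens), IsClosedImmersion i ∧
      Set.range i = closure {I.subschemeι η} ∧ y ∈ U ∧ IsProper ((i ≫ f) ∣_ U) := by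
    intro η hη
    obtain ⟨W, i₀, hi₀, hW, hr₀⟩ :=
      DevissLib.exists_integral_closed (X := I.subscheme) (T := closure {η}) isClosed_closure hη.2.1
    let i : W ⟶ X := i₀ ≫ I.subschemeι
    have hi₀η : i₀ (genericPoint W) = η := by
      have h1 := (genericPoint_spec W).image i₀.continuous
      rw [Set.image_univ, hr₀, closure_closure] at h1
      exact h1.eq (isGenericPoint_closure (x := η))
    have hri : Set.range i = closure {I.subschemeι η} := by
      rw [show (i : W → X) = I.subschemeι ∘ i₀ from rfl, Set.range_comp, hr₀,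
        ← I.subschemeι.isClosedEmbedding.closure_image_eq, Set.image_singleton]
    have hz : i (genericPoint W) = I.subschemeι η := congrArg I.subschemeι hi₀η
    have hmax : ∀ z' ∈ C, z' ⤳ i (genericPoint W) → z' = i (genericPoint W) := by
      intro z' hz' hsp
      obtain ⟨w, rfl⟩ : z' ∈ Set.range I.subschemeι := by
        rwa [range_subscheme_vanishingIdeal]
      rw [hz] at hsp ⊢
      have h1 : w ⤳ η := I.subschemeι.isClosedEmbedding.isInducing.specializes_iff.mp hsp
      have h2 : closure {w} ≤ closure {η} :=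
        hη.2.2 (isIrreducible_singleton.closure) (closure_minimal
          (Set.singleton_subset_iff.mpr h1.mem_closure) isClosed_closure)
      have h3 : η ⤳ w := specializes_iff_mem_closure.mpr (h2 (subset_closure rfl))
      exact congrArg _ (h1.antisymm h3).eq
    have hzC : i (genericPoint W) ∈ C := by
      have := Set.mem_range_self (f := I.subschemeι) η
      rw [range_subscheme_vanishingIdeal] at this
      rwa [hz]
    obtain ⟨U, hyU, hU⟩ := exists_isProper_nhd (i ≫ f) y fun A hA h hh hhy ↦ by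
      let φ := i.residueFieldMap (genericPoint W)
      have hφ : Function.Bijective φ.hom := residueFieldMap_bijective i _
      have : IsIso φ := (ConcreteCategory.isIso_iff_bijective φ).mpr hφ
      obtain ⟨ε, hε⟩ := exists_comap_equiv φ.hom hφ A
      have hDVR : IsDiscreteValuationRing (A.comap φ.hom) :=
        IsDiscreteValuationRing.RingEquivClass.isDiscreteValuationRing ε.symm
      let e : Spec (CommRingCat.of A) ⟶ Spec (CommRingCat.of (A.comap φ.hom)) :=
        Spec.map (CommRingCat.ofHom ε.toRingHom)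
      let e' : Spec (CommRingCat.of (A.comap φ.hom)) ⟶ Spec (CommRingCat.of A) :=
        Spec.map (CommRingCat.ofHom ε.symm.toRingHom)
      have hee : e ≫ e' = 𝟙 _ := by
        rw [← Spec.map_comp, ← Spec.map_id]
        congr 1
        ext a
        exact congrArg Subtype.val (ε.apply_symm_apply a)
      let sA : CommRingCat.of A ⟶ W.residueField (genericPoint W) := CommRingCat.ofHom A.subtype
      let sA' : CommRingCat.of (A.comap φ.hom) ⟶ X.residueField (i (genericPoint W)) :=
        CommRingCat.ofHom (A.comap φ.hom).subtype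
      replace hh : Spec.map sA ≫ h = W.fromSpecResidueField _ ≫ i ≫ f := hh
      have hsq : Spec.map φ ≫ Spec.map sA' = Spec.map sA ≫ e := by
        rw [← Spec.map_comp, ← Spec.map_comp]
        congr 1
        ext a
        exact (DFunLike.congr_fun hε a).symm
      obtain ⟨l', hl'f, hl'⟩ := H _ hzC hmax (A.comap φ.hom) hDVR (e' ≫ h) (by
          show Spec.map sA' ≫ _ = _
          rw [← cancel_epi (Spec.map φ), ← Category.assoc, hsq, Category.assoc,
            reassoc_of% hee, hh, Scheme.Hom.SpecMap_residueFieldMap_fromSpecResidueField_assoc])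
        (by
          have : IsLocalHom ε.symm.toRingHom := ⟨fun a ha ↦ (isUnit_map_iff ε.symm a).mp ha⟩
          show h (PrimeSpectrum.comap ε.symm.toRingHom (IsLocalRing.closedPoint _)) = y
          rw [IsLocalRing.comap_closedPoint]
          exact hhy)
      replace hl' : Spec.map sA' ≫ l' = X.fromSpecResidueField _ := hl'
      have hlu : Spec.map sA ≫ e ≫ l' = W.fromSpecResidueField _ ≫ i := by
        rw [← Category.assoc, ← hsq, Category.assoc, hl']
        exact Scheme.Hom.SpecMap_residueFieldMap_fromSpecResidueField i _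
      have hlr : Set.range (e ≫ l') ⊆ Set.range i := by
        have hd : DenseRange (Spec.map sA) := (isDominant_subtype A).denseRange
        rintro _ ⟨w, rfl⟩
        have h1 : (e ≫ l') w ∈ closure ((e ≫ l') '' Set.range (Spec.map sA)) :=
          image_closure_subset_closure_image (e ≫ l').continuous ⟨w, hd w, rfl⟩
        refine closure_minimal ?_ i.isClosedEmbedding.isClosed_range h1
        rintro _ ⟨_, ⟨v, rfl⟩, rfl⟩
        refine ⟨W.fromSpecResidueField _ v, ?_⟩
        show (W.fromSpecResidueField _ ≫ i) v = (Spec.map sA ≫ e ≫ l') v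
        rw [hlu]
      refine ⟨IsClosedImmersion.lift i (e ≫ l') (ker_le_ker_of_range_subset i _ hlr), ?_, ?_⟩
      · rw [IsClosedImmersion.lift_fac_assoc, Category.assoc, hl'f, reassoc_of% hee]
      · show Spec.map sA ≫ _ = _
        rw [← cancel_mono i, Category.assoc, IsClosedImmersion.lift_fac, hlu]
    exact ⟨W, i, U, inferInstance, hri, hyU, hU⟩
  choose W i U hi hr hyU hU using key
  have : Finite E := hE.to_subtype
  let U₀ : Y.Opens := ⟨⋂ η : E, (U η.1 η.2 : Set Y), isOpen_iInter_of_finite fun η ↦ (U _ _).isOpen⟩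
  let U' : Y.Opens := U₀ ⊓ V
  have hyU' : y ∈ U' := ⟨Set.mem_iInter.mpr fun η ↦ hyU _ _, hyV⟩
  have hcl : IsClosed ((f ⁻¹ᵁ U').ι ⁻¹' C) := hC.preimage (f ⁻¹ᵁ U').ι.continuous
  refine ⟨U', hyU', hcl, isProper_trace f C hC U' hcl ?_⟩
  intro A _ _ _ a b haC hbU hab
  obtain ⟨w, hw⟩ : a (IsLocalRing.closedPoint (FractionRing A)) ∈ Set.range I.subschemeι := by
    rw [range_subscheme_vanishingIdeal]
    exact haC
  obtain ⟨η, hη', hηw⟩ := DvrDomLib.exists_generic_specializes w
  have hwΩ : w ∈ Ω := by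
    show f (I.subschemeι w) ∈ V
    rw [hw]
    show (a ≫ f) _ ∈ V
    rw [hab]
    exact range_subset_of_closedPoint_mem b (U := V) hbU.2 ⟨_, rfl⟩
  have hη : η ∈ E := ⟨hηw.mem_open Ω.isOpen hwΩ, hη'⟩
  have := hi η hη
  have har : Set.range a ⊆ Set.range (i η hη) := by
    rintro _ ⟨v, rfl⟩
    have hv : v = IsLocalRing.closedPoint (FractionRing A) :=
      Subsingleton.elim (α := PrimeSpectrum _) _ _
    rw [hr η hη, hv, ← hw]
    exact (hηw.map I.subschemeι.continuous).mem_closure
  let a₁ := IsClosedImmersion.lift (i η hη) a (ker_le_ker_of_range_subset _ _ har)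
  have := hU η hη
  obtain ⟨l, hl₁, hl₂⟩ := exists_lift_of_isProper_restrict (i η hη ≫ f) (U η hη) A
    (FractionRing A) a₁ b (Set.mem_iInter.mp hbU.1 ⟨η, hη⟩) (by
      rw [IsClosedImmersion.lift_fac_assoc, hab])
  refine ⟨l ≫ i η hη, by rw [Category.assoc, hl₁], ?_⟩
  rw [← Category.assoc, hl₂, IsClosedImmersion.lift_fac]

end DvrProperLib
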