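import Groth.Agent.DvrProperLib.Components
import Groth.Agent.S2363
import Mathlib.AlgebraicGeometry.Geometrically.Connected
import Mathlib.RingTheory.DiscreteValuationRing.TFAE
import Mathlib.RingTheory.Filtration

/-!
# Geometric connectedness of special fibres of proper flat morphisms
-/

set_option autoImplicit false

universe u

open CategoryTheory CategoryTheory.Limits AlgebraicGeometry TopologicalSpace

namespace DvrProperLib

/-- A flat local extension of a discrete valuation ring with trivial ramification is one. -/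
theorem isDiscreteValuationRing_of_flat {R B : Type u} [CommRing R] [IsDomain R]
    [IsDiscreteValuationRing R] [CommRing B] [IsLocalRing B] [IsNoetherianRing B] [Algebra R B]
    [Module.Flat R B] [IsLocalHom (algebraMap R B)]
    (hm : ((IsLocalRing.maximalIdeal R).map (algebraMap R B)).IsMaximal) :
    ∃ _ : IsDomain B, IsDiscreteValuationRing B := by
  obtain ⟨ϖ, hϖ⟩ := IsDiscreteValuationRing.exists_irreducible R
  let π := algebraMap R B ϖ
  have hπm : IsLocalRing.maximalIdeal B = Ideal.span {π} := by
    rw [← IsLocalRing.eq_maximalIdeal hm, hϖ.maximalIdeal_eq, Ideal.map_span, Set.image_singleton]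
  have hreg : ∀ x : B, π * x = 0 → x = 0 := by
    intro x hx
    have h1 := Module.Flat.isSMulRegular_of_isRegular (M := B)
      (IsRegular.of_ne_zero hϖ.ne_zero : IsRegular ϖ)
    apply h1
    show ϖ • x = ϖ • 0
    rw [smul_zero, Algebra.smul_def]
    exact hx
  have hregn : ∀ (n : ℕ) (x : B), π ^ n * x = 0 → x = 0 := by
    intro n
    induction n with
    | zero => intro x hx; simpa using hx
    | succ n ih => intro x hx; exact ih _ (hreg _ (by rw [← mul_assoc, ← pow_succ']; exact hx))
  have hdec : ∀ x : B, x ≠ 0 → ∃ (n : ℕ) (u : Bˣ), π ^ n * u = x := by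
    intro x hx
    have hex : ∃ n, x ∉ IsLocalRing.maximalIdeal B ^ n := by
      by_contra hc
      push Not at hc
      have := (Submodule.mem_iInf _).mpr hc
      rw [Ideal.iInf_pow_eq_bot_of_isLocalRing _ (IsLocalRing.maximalIdeal.isMaximal B).ne_top,
        Ideal.mem_bot] at this
      exact hx this
    classical
    have h0 : Nat.find hex ≠ 0 := fun h => by
      have := Nat.find_spec hex
      rw [h, pow_zero, Ideal.one_eq_top] at this
      exact this trivial
    obtain ⟨n, hn⟩ := Nat.exists_eq_succ_of_ne_zero h0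
    have hn1 : x ∈ IsLocalRing.maximalIdeal B ^ n := of_not_not (Nat.find_min hex (by omega))
    have hn2 : x ∉ IsLocalRing.maximalIdeal B ^ (n + 1) := by
      have := Nat.find_spec hex
      rwa [hn] at this
    rw [hπm, Ideal.span_singleton_pow, Ideal.mem_span_singleton'] at hn1 hn2
    obtain ⟨c, rfl⟩ := hn1
    have hc : IsUnit c := by
      by_contra hc
      obtain ⟨d, rfl⟩ := Ideal.mem_span_singleton'.mp (hπm ▸ hc : c ∈ Ideal.span {π})
      exact hn2 ⟨d, by ring⟩
    exact ⟨n, hc.unit, by rw [mul_comm, hc.unit_spec]⟩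
  have : NoZeroDivisors B := ⟨fun {x y} hxy => by
    by_contra hc
    push Not at hc
    obtain ⟨n, u, rfl⟩ := hdec x hc.1
    rw [mul_assoc] at hxy
    have := hregn n _ hxy
    exact hc.2 (u.isUnit.mul_right_eq_zero.mp this)⟩
  have : IsDomain B := NoZeroDivisors.to_isDomain B
  refine ⟨inferInstance, ?_⟩
  have hπ0 : π ≠ 0 := fun h ↦ one_ne_zero (hreg 1 (by rw [h, zero_mul]))
  have hnf : ¬ IsField B := fun hF ↦ by
    rw [IsLocalRing.isField_iff_maximalIdeal_eq, hπm, Ideal.span_singleton_eq_bot] at hF
    exact hπ0 hF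
  exact ((IsDiscreteValuationRing.TFAE B hnf).out 4 0).mp (⟨⟨π, hπm⟩⟩ : (IsLocalRing.maximalIdeal B).IsPrincipal)

/-- The closed fibre of a proper flat family over a complete discrete valuation ring with connected
generic fibre is connected. -/
theorem isPreconnected_closed_fibre {B : Type u} [CommRing B] [IsDomain B]
    [IsDiscreteValuationRing B] [IsAdicComplete (IsLocalRing.maximalIdeal B) B] {P : Scheme.{u}}
    (q : P ⟶ Spec (CommRingCat.of B)) [IsProper q] [Flat q]
    (hT : _root_.IsPreconnected (q ⁻¹' {genericPoint (Spec (CommRingCat.of B))})) :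
    _root_.IsPreconnected (q ⁻¹' {IsLocalRing.closedPoint B}) := by
  intro U V hU hV hcov hUne hVne
  by_contra hne
  rw [Set.not_nonempty_iff_eq_empty] at hne
  have hz : ∀ p : Spec (CommRingCat.of B),
      p ∈ PrimeSpectrum.zeroLocus (IsLocalRing.maximalIdeal B : Set B) ↔
        p = IsLocalRing.closedPoint B := by
    intro p
    refine ⟨fun h ↦ PrimeSpectrum.ext ?_, fun h ↦ by rw [h]; exact le_refl (IsLocalRing.maximalIdeal B)⟩
    exact ((IsLocalRing.maximalIdeal.isMaximal B).eq_of_le (p : PrimeSpectrum B).isPrime.ne_top h).symm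
  obtain ⟨W, hWc, hW⟩ := ProperClopenLib.exists_clopen_lift' q (IsLocalRing.maximalIdeal B)
    ⟨U, hU⟩ ⟨V, hV⟩ (fun x hx ↦ hcov ((hz _).mp hx)) (fun x hx hx' ↦ by
      have h1 : x ∈ q ⁻¹' {IsLocalRing.closedPoint B} ∩ (U ∩ V) := ⟨(hz _).mp hx', hx⟩
      rwa [hne] at h1)
  obtain ⟨a, ha, haU⟩ := hUne
  obtain ⟨b, hb, hbV⟩ := hVne
  have haW : a ∈ W := (hW a ((hz _).mpr ha)).mpr haU
  have hbW : b ∉ W := fun h ↦ by
    have h1 : b ∈ q ⁻¹' {IsLocalRing.closedPoint B} ∩ (U ∩ V) :=
      ⟨hb, (hW b ((hz _).mpr hb)).mp h, hbV⟩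
    rwa [hne] at h1
  have hgen : ∀ x : P, ∃ t, t ⤳ x ∧ q t = genericPoint (Spec (CommRingCat.of B)) := fun x ↦
    Flat.generalizingMap q ((genericPoint_spec _).specializes trivial :
      genericPoint (Spec (CommRingCat.of B)) ⤳ q x)
  obtain ⟨t₁, ht₁, ht₁'⟩ := hgen a
  obtain ⟨t₂, ht₂, ht₂'⟩ := hgen b
  have hsub := hT.subset_isClopen ⟨hWc, W.isOpen⟩ ⟨t₁, ht₁', ht₁.mem_open W.isOpen haW⟩
  exact hbW (ht₂.mem_closed hWc (hsub ht₂'))

/-- A fibre of a proper flat morphism at a point which is the centre of a discrete valuation ring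
with geometrically connected generic fibre is geometrically connected. -/
theorem connectedSpace_pullback_of_dvr {X S : Scheme.{u}} (f : X ⟶ S) [IsProper f] [Flat f]
    {R : Type u} [CommRing R] [IsDomain R] [IsDiscreteValuationRing R]
    (b₀ : Spec (CommRingCat.of R) ⟶ S)
    (hgen : GeometricallyConnected
      (f.fiberToSpecResidueField (b₀ (genericPoint (Spec (CommRingCat.of R))))))
    (hne : ∃ x, f x = b₀ (IsLocalRing.closedPoint R))
    (K : Type u) [Field K] (y : Spec (CommRingCat.of K) ⟶ S)
    (hy : y (IsLocalRing.closedPoint K) = b₀ (IsLocalRing.closedPoint R)) :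
    ConnectedSpace ↥(pullback f y) := by
  obtain ⟨p, -, hp⟩ := Scheme.Pullback.exists_preimage_pullback (f := y) (g := b₀)
    (IsLocalRing.closedPoint K) (IsLocalRing.closedPoint R) hy
  let L := (pullback y b₀).residueField p
  let v : Spec L ⟶ Spec (CommRingCat.of R) :=
    (pullback y b₀).fromSpecResidueField p ≫ pullback.snd y b₀
  let w : Spec L ⟶ Spec (CommRingCat.of K) :=
    (pullback y b₀).fromSpecResidueField p ≫ pullback.fst y b₀
  have hwv : w ≫ y = v ≫ b₀ := by simp only [v, w, Category.assoc, pullback.condition]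
  let φ : CommRingCat.of R ⟶ L := Spec.preimage v
  have hφv : Spec.map φ = v := Spec.map_preimage v
  have hker : RingHom.ker φ.hom = IsLocalRing.maximalIdeal R := by
    have h1 : v (IsLocalRing.closedPoint L) = IsLocalRing.closedPoint R := by
      show pullback.snd y b₀ ((pullback y b₀).fromSpecResidueField p _) = _
      erw [Scheme.fromSpecResidueField_apply]
      exact hp
    rw [← hφv] at h1
    have h2 : (IsLocalRing.maximalIdeal L).comap φ.hom = IsLocalRing.maximalIdeal R :=
      congrArg PrimeSpectrum.asIdeal h1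
    rwa [IsLocalRing.maximalIdeal_eq_bot, ← RingHom.ker_eq_comap_bot] at h2
  let φk : IsLocalRing.ResidueField R →+* L :=
    Ideal.Quotient.lift _ φ.hom (fun a ha ↦ by rwa [← hker] at ha)
  letI : Algebra (IsLocalRing.ResidueField R) L := φk.toAlgebra
  obtain ⟨B, _, _, hBn, hBl, hBh, hBf, e, he⟩ := Groth.Agent.S2363.result (A := R) L
  have hmax : ((IsLocalRing.maximalIdeal R).map (algebraMap R B)).IsMaximal :=
    Ideal.Quotient.maximal_of_isField _ (e.toMulEquiv.isField (Field.toIsField L))
  obtain ⟨_, _⟩ := isDiscreteValuationRing_of_flat hmax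
  obtain ⟨C, _, _, _, _, ι, hιi, hιl⟩ := exists_completion B
  let k' := IsLocalRing.ResidueField C
  have hle : (IsLocalRing.maximalIdeal R).map (algebraMap R B) ≤
      RingHom.ker ((IsLocalRing.residue C).comp ι) := by
    rw [IsLocalRing.eq_maximalIdeal hmax]
    intro a ha
    exact (IsLocalRing.residue_eq_zero_iff _).mpr (map_nonunit ι a ha)
  let ρ : L →+* k' := (Ideal.Quotient.lift _ ((IsLocalRing.residue C).comp ι) hle).comp
    e.symm.toRingHom
  have hρ : ρ.comp φ.hom = (IsLocalRing.residue C).comp (ι.comp (algebraMap R B)) := by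
    refine RingHom.ext fun a ↦ ?_
    have h1 : e.symm (φ.hom a) = Ideal.Quotient.mk _ (algebraMap R B a) := by
      rw [RingEquiv.symm_apply_eq, he a]
      rfl
    show Ideal.Quotient.lift _ _ hle (e.symm (φ.hom a)) = _
    rw [h1]
    rfl
  let jC : Spec (CommRingCat.of k') ⟶ Spec (CommRingCat.of C) :=
    Spec.map (CommRingCat.ofHom (IsLocalRing.residue C))
  have : IsClosedImmersion jC :=
    IsClosedImmersion.spec_of_surjective _ IsLocalRing.residue_surjective
  let b : Spec (CommRingCat.of C) ⟶ S :=
    Spec.map (CommRingCat.ofHom (ι.comp (algebraMap R B))) ≫ b₀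
  let u' : Spec (CommRingCat.of k') ⟶ Spec (CommRingCat.of K) :=
    Spec.map (CommRingCat.ofHom ρ) ≫ w
  have huy : u' ≫ y = jC ≫ b := by
    show (Spec.map (CommRingCat.ofHom ρ) ≫ w) ≫ y =
      Spec.map (CommRingCat.ofHom (IsLocalRing.residue C)) ≫
        Spec.map (CommRingCat.ofHom (ι.comp (algebraMap R B))) ≫ b₀
    rw [Category.assoc, hwv, ← hφv, ← Spec.map_comp_assoc, ← Spec.map_comp_assoc,
      ← CommRingCat.ofHom_comp, ← hρ]
    rfl
  let ψ := ι.comp (algebraMap R B)
  have hψi : Function.Injective ψ := by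
    intro a a' h
    have h2 := hιi h
    by_contra hne'
    have h3 := Module.Flat.isSMulRegular_of_isRegular (M := B)
      (IsRegular.of_ne_zero (sub_ne_zero.mpr hne') : IsRegular (a - a'))
    refine one_ne_zero (α := B) (h3 ?_)
    show (a - a') • (1 : B) = (a - a') • (0 : B)
    rw [smul_zero, Algebra.smul_def, mul_one, map_sub, h2, sub_self]
  have hbη : b (genericPoint (Spec (CommRingCat.of C))) =
      b₀ (genericPoint (Spec (CommRingCat.of R))) := by
    show b₀ (PrimeSpectrum.comap ψ _) = _
    refine congrArg b₀ ?_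
    rw [genericPoint_eq_bot_of_affine, genericPoint_eq_bot_of_affine]
    apply PrimeSpectrum.ext
    show (⊥ : Ideal C).comap ψ = ⊥
    rw [← RingHom.ker_eq_comap_bot]
    exact (RingHom.injective_iff_ker_eq_bot ψ).mp hψi
  have hbe : b (IsLocalRing.closedPoint C) = b₀ (IsLocalRing.closedPoint R) := by
    show b₀ (PrimeSpectrum.comap ψ _) = _
    refine congrArg b₀ ?_
    have : IsLocalHom ψ := ⟨fun a ha ↦ hBh.map_nonunit a (hιl.map_nonunit _ ha)⟩
    exact IsLocalRing.comap_closedPoint ψ
  let q := pullback.snd f b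
  have hT : _root_.IsPreconnected (q ⁻¹' {genericPoint (Spec (CommRingCat.of C))}) := by
    let η := genericPoint (Spec (CommRingCat.of C))
    let jL : Spec (CommRingCat.of (FractionRing C)) ⟶ Spec (CommRingCat.of C) :=
      Spec.map (CommRingCat.ofHom (algebraMap C (FractionRing C)))
    have hjη : jL (IsLocalRing.closedPoint (FractionRing C)) = η := by
      show _ = genericPoint (Spec (CommRingCat.of C))
      rw [genericPoint_eq_bot_of_affine]
      apply PrimeSpectrum.ext
      show (IsLocalRing.maximalIdeal (FractionRing C)).comap (algebraMap C (FractionRing C)) = ⊥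
      rw [IsLocalRing.maximalIdeal_eq_bot, ← RingHom.ker_eq_comap_bot]
      exact (RingHom.injective_iff_ker_eq_bot _).mp (IsFractionRing.injective C (FractionRing C))
    obtain ⟨φ₁, Φ₁, -, -, hr⟩ := exists_fibre_map f b (FractionRing C) jL η hjη _ hbη
    letI : Algebra (IsLocalRing.ResidueField (S.presheaf.stalk
        (b₀ (genericPoint (Spec (CommRingCat.of R)))))) (FractionRing C) := φ₁.hom.toAlgebra
    have : ConnectedSpace ↥(FBase.bc (f.fiberToSpecResidueField
        (b₀ (genericPoint (Spec (CommRingCat.of R))))) (FractionRing C)) :=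
      hgen.geometrically_connectedSpace _ _ _ (IsPullback.of_hasPullback _ _)
    show _root_.IsPreconnected (q ⁻¹' {η})
    rw [← hr]
    exact isPreconnected_range Φ₁.continuous
  have h0 := isPreconnected_closed_fibre q hT
  let m : pullback q jC ⟶ pullback f y :=
    pullback.lift (pullback.fst q jC ≫ pullback.fst f b) (pullback.snd q jC ≫ u') (by
      simp only [Category.assoc, pullback.condition, huy]
      rw [pullback.condition_assoc])
  have hm : IsPullback m (pullback.snd q jC) (pullback.snd f y) u' := by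
    refine IsPullback.of_right ?_ (pullback.lift_snd _ _ _) (IsPullback.of_hasPullback f y)
    rw [pullback.lift_fst, huy]
    exact (IsPullback.of_hasPullback q jC).paste_horiz (IsPullback.of_hasPullback f b)
  have : Surjective u' :=
    ⟨fun z ↦ ⟨IsLocalRing.closedPoint k', Subsingleton.elim (α := PrimeSpectrum K) _ _⟩⟩
  have hms : Surjective m := MorphismProperty.of_isPullback hm.flip ‹Surjective u'›
  have hjC : jC (IsLocalRing.closedPoint k') = IsLocalRing.closedPoint C :=
    show PrimeSpectrum.comap (IsLocalRing.residue C) (IsLocalRing.closedPoint _) = _ from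
      IsLocalRing.comap_closedPoint _
  have hrq : Set.range (pullback.fst q jC) = q ⁻¹' {IsLocalRing.closedPoint C} := by
    rw [Scheme.Pullback.range_fst]
    refine congrArg (q ⁻¹' ·) ?_
    ext z
    constructor
    · rintro ⟨v, rfl⟩
      rw [Subsingleton.elim (α := PrimeSpectrum k') v (IsLocalRing.closedPoint k')]
      exact hjC
    · rintro rfl
      exact ⟨_, hjC⟩
  have : PreconnectedSpace ↥(pullback q jC) := ⟨by
    rw [← (pullback.fst q jC).isEmbedding.isInducing.isPreconnected_image, Set.image_univ, hrq]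
    exact h0⟩
  obtain ⟨x, hx⟩ := hne
  obtain ⟨z, -, hz⟩ := Scheme.Pullback.exists_preimage_pullback (f := f) (g := b) x
    (IsLocalRing.closedPoint C) (hx.trans hbe.symm)
  obtain ⟨z', -⟩ := hrq.ge (hz : z ∈ q ⁻¹' {IsLocalRing.closedPoint C})
  have : Nonempty ↥(pullback q jC) := ⟨z'⟩
  have : ConnectedSpace ↥(pullback q jC) := ⟨inferInstance⟩
  exact m.surjective.connectedSpace m.continuous

end DvrProperLib
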