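import Groth.Agent.ProperClopenLib.Separated
import Groth.Agent.DvrProperLib.Closure
import Groth.Prelude.Def_FDesc

/-!
# Components of fibres over a complete discrete valuation ring
-/

set_option autoImplicit false

universe u

open CategoryTheory CategoryTheory.Limits AlgebraicGeometry TopologicalSpace

namespace DvrProperLib

/-- The fibre over a point with values in a field, as the base change of the fibre of a morphism. -/
theorem exists_fibre_map {X Y S : Scheme.{u}} (f : X ⟶ Y) (b : S ⟶ Y) (L : Type u) [Field L]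
    (j : Spec (CommRingCat.of L) ⟶ S) (c : S) (hc : j (IsLocalRing.closedPoint L) = c) (y₁ : Y)
    (hy₁ : b c = y₁) :
    ∃ φ : Y.residueField y₁ ⟶ CommRingCat.of L,
      letI : Algebra (IsLocalRing.ResidueField (Y.presheaf.stalk y₁)) L := φ.hom.toAlgebra
      ∃ Φ : FBase.bc (f.fiberToSpecResidueField y₁) L ⟶ pullback f b,
        Φ ≫ pullback.fst f b = FBase.bcπ (f.fiberToSpecResidueField y₁) L ≫ f.fiberι y₁ ∧
        IsPullback Φ (FBase.bcStr (f.fiberToSpecResidueField y₁) L) (pullback.snd f b) j ∧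
        Set.range Φ = pullback.snd f b ⁻¹' {c} := by
  have hy : (j ≫ b) (IsLocalRing.closedPoint L) = y₁ := by
    show b (j _) = y₁
    rw [hc, hy₁]
  subst hy
  let φ : Y.residueField ((j ≫ b) (IsLocalRing.closedPoint L)) ⟶ CommRingCat.of L :=
    Y.descResidueField (Scheme.stalkClosedPointTo (j ≫ b))
  refine ⟨φ, ?_⟩
  letI : Algebra (IsLocalRing.ResidueField
      (Y.presheaf.stalk ((j ≫ b) (IsLocalRing.closedPoint L)))) L := φ.hom.toAlgebra
  have hφ : Spec.map φ ≫ Y.fromSpecResidueField _ = j ≫ b :=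
    Scheme.descResidueField_stalkClosedPointTo_fromSpecResidueField L Y (j ≫ b)
  let g := f.fiberToSpecResidueField ((j ≫ b) (IsLocalRing.closedPoint L))
  have hout : IsPullback (FBase.bcπ g L ≫ f.fiberι _) (FBase.bcStr g L) f (j ≫ b) :=
    Eq.subst (motive := fun m ↦ IsPullback (FBase.bcπ g L ≫ f.fiberι _) (FBase.bcStr g L) f m) hφ
      ((IsPullback.of_hasPullback g (Spec.map φ)).paste_horiz
        (IsPullback.of_hasPullback f (Y.fromSpecResidueField _)))
  let Φ : FBase.bc g L ⟶ pullback f b :=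
    pullback.lift (FBase.bcπ g L ≫ f.fiberι _) (FBase.bcStr g L ≫ j)
      (hout.w.trans (Category.assoc _ _ _).symm)
  have hΦ : IsPullback Φ (FBase.bcStr g L) (pullback.snd f b) j := by
    refine IsPullback.of_right ?_ (pullback.lift_snd _ _ _) (IsPullback.of_hasPullback f b)
    rw [pullback.lift_fst]
    exact hout
  refine ⟨Φ, pullback.lift_fst _ _ _, hΦ, ?_⟩
  rw [show (Φ : _ → _) = pullback.fst (pullback.snd f b) j ∘ hΦ.isoPullback.hom by
      conv_lhs => rw [← hΦ.isoPullback_hom_fst]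
      rfl, Set.range_comp, Set.range_eq_univ.mpr hΦ.isoPullback.hom.surjective, Set.image_univ,
    Scheme.Pullback.range_fst]
  refine congrArg (pullback.snd f b ⁻¹' ·) ?_
  ext w
  constructor
  · rintro ⟨v, rfl⟩
    rw [Subsingleton.elim (α := PrimeSpectrum L) v (IsLocalRing.closedPoint L)]
    exact hc
  · rintro rfl
    exact ⟨_, hc⟩

/-- A closed subset of a scheme over a complete local ring whose part off the closed fibre is
preconnected and dense, and which has a proper piece in its closed fibre, is proper, and its closed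
fibre is that piece. -/
theorem isProper_closure_of_piece {B : Type u} [CommRing B] [IsNoetherianRing B] [IsLocalRing B]
    [IsAdicComplete (IsLocalRing.maximalIdeal B) B] {P : Scheme.{u}}
    (q : P ⟶ Spec (CommRingCat.of B)) [IsSeparated q] [LocallyOfFiniteType q] [QuasiCompact q]
    (S : Set P) (hS : _root_.IsPreconnected S) (V : P.Opens) {R : Scheme.{u}} (k : R ⟶ P) [IsProper (k ≫ q)]
    (hk : Set.range k = (V : Set P) ∩ q ⁻¹' {IsLocalRing.closedPoint B} ∩ closure S)
    (hne : (Set.range k).Nonempty) :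
    IsProper ((Scheme.IdealSheafData.vanishingIdeal
        (⟨closure S, isClosed_closure⟩ : Closeds P)).subschemeι ≫ q) ∧
      ∀ x ∈ closure S, q x = IsLocalRing.closedPoint B → x ∈ V := by
  let J := Scheme.IdealSheafData.vanishingIdeal (⟨closure S, isClosed_closure⟩ : Closeds P)
  have hrJ : Set.range J.subschemeι = closure S := range_subscheme_vanishingIdeal _
  have hz : ∀ p : Spec (CommRingCat.of B),
      p ∈ PrimeSpectrum.zeroLocus (IsLocalRing.maximalIdeal B : Set B) ↔
        p = IsLocalRing.closedPoint B := by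
    intro p
    refine ⟨fun h ↦ PrimeSpectrum.ext ?_, fun h ↦ by rw [h]; exact le_refl (IsLocalRing.maximalIdeal B)⟩
    exact ((IsLocalRing.maximalIdeal.isMaximal B).eq_of_le (p : PrimeSpectrum B).isPrime.ne_top h).symm
  let k' := pullback.snd k J.subschemeι
  have : IsProper (k' ≫ J.subschemeι ≫ q) := by
    rw [← pullback.condition_assoc]
    exact MorphismProperty.comp_mem @IsProper _ _ inferInstance ‹IsProper (k ≫ q)›
  have hk' : Set.range k' = J.subschemeι ⁻¹' Set.range k :=
    Scheme.Pullback.range_snd k J.subschemeι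
  obtain ⟨W, hWc, hWp, hW⟩ := ProperClopenLib.exists_clopen_proper_lift (J.subschemeι ≫ q)
    (IsLocalRing.maximalIdeal B) (J.subschemeι ⁻¹ᵁ V) k' (by
      rw [hk', hk]
      ext x
      constructor
      · rintro ⟨⟨hxV, hxe⟩, -⟩
        exact ⟨hxV, (hz _).mpr hxe⟩
      · rintro ⟨hxV, hxe⟩
        exact ⟨⟨hxV, (hz _).mp hxe⟩, hrJ.subset ⟨x, rfl⟩⟩)
  have hSpre : _root_.IsPreconnected (J.subschemeι ⁻¹' S) := by
    rw [← J.subschemeι.isEmbedding.isInducing.isPreconnected_image,
      Set.image_preimage_eq_of_subset (hrJ.symm ▸ subset_closure)]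
    exact hS
  have hmeet : ((J.subschemeι ⁻¹' S) ∩ (W : Set J.subscheme)).Nonempty := by
    obtain ⟨_, r, rfl⟩ := hne
    have hr := hk.subset (Set.mem_range_self r)
    obtain ⟨x, hx⟩ := hrJ.ge hr.2
    have hxW : x ∈ W := by
      refine (hW x ((hz _).mpr ?_)).mpr ?_
      · show q (J.subschemeι x) = _
        rw [hx]
        exact hr.1.2
      · show J.subschemeι x ∈ V
        rw [hx]
        exact hr.1.1
    obtain ⟨O, hO, hOW⟩ := J.subschemeι.isEmbedding.isInducing.isOpen_iff.mp W.isOpen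
    have hxO : J.subschemeι x ∈ O := hOW.ge hxW
    obtain ⟨s, hsO, hsS⟩ := mem_closure_iff.mp (hrJ.subset ⟨x, rfl⟩) O hO hxO
    obtain ⟨w, rfl⟩ := hrJ.ge (subset_closure hsS)
    exact ⟨w, hsS, hOW.le hsO⟩
  have hsub : J.subschemeι ⁻¹' S ⊆ (W : Set J.subscheme) :=
    hSpre.subset_isClopen ⟨hWc, W.isOpen⟩ hmeet
  have htop : W = ⊤ := by
    refine eq_top_iff.mpr fun x _ ↦ ?_
    have h1 : closure S ⊆ J.subschemeι '' W :=
      closure_minimal (fun s hs ↦ by
        obtain ⟨w, rfl⟩ := hrJ.ge (subset_closure hs)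
        exact ⟨w, hsub hs, rfl⟩) (J.subschemeι.isClosedEmbedding.isClosedMap _ hWc)
    obtain ⟨w, hw, hwx⟩ := h1 (hrJ.subset ⟨x, rfl⟩)
    rwa [← J.subschemeι.isEmbedding.injective hwx]
  refine ⟨?_, fun x hx hxe ↦ ?_⟩
  · subst htop
    have : IsIso (⊤ : J.subscheme.Opens).ι := J.subscheme.topIso.isIso_hom
    exact (MorphismProperty.cancel_left_of_respectsIso @IsProper _ _).mp hWp
  · obtain ⟨w, rfl⟩ := hrJ.ge hx
    exact (hW w ((hz _).mpr hxe)).mp (htop.ge trivial)

/-- A discrete valuation ring has two points. -/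
theorem eq_closedPoint_or_generic {B : Type u} [CommRing B] [IsDomain B] [IsDiscreteValuationRing B]
    (p : Spec (CommRingCat.of B)) :
    p = IsLocalRing.closedPoint B ∨ p = genericPoint (Spec (CommRingCat.of B)) := by
  rw [genericPoint_eq_bot_of_affine]
  by_cases h : (p : PrimeSpectrum B).asIdeal = ⊥
  · exact Or.inr (PrimeSpectrum.ext h)
  · exact Or.inl (PrimeSpectrum.ext (IsLocalRing.eq_maximalIdeal
      ((p : PrimeSpectrum B).isPrime.isMaximal h)))

theorem closedPoint_ne_generic (B : Type u) [CommRing B] [IsDomain B] [IsDiscreteValuationRing B] :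
    (IsLocalRing.closedPoint B : Spec (CommRingCat.of B)) ≠
      genericPoint (Spec (CommRingCat.of B)) := by
  rw [genericPoint_eq_bot_of_affine]
  intro h
  exact IsDiscreteValuationRing.not_isField B (IsLocalRing.isField_iff_maximalIdeal_eq.mpr
    (congrArg PrimeSpectrum.asIdeal h))

/-- Over a discrete valuation ring centred at `y₀` with generic point at `y₁`, the closure of the
generic part of the preimage of a submersive set meets the closed fibre in that preimage. -/
theorem exists_mem_closure_generic {X Y : Scheme.{u}} (f : X ⟶ Y) (Z : Set X)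
    (h3 : ∀ (Y' : Scheme.{u}) (h : Y' ⟶ Y) (E : Set Y'), E ⊆ h.base ⁻¹' (f.base '' Z) →
      (∃ W : Set ↥(pullback f h), IsOpen W ∧
        W ∩ (pullback.fst f h).base ⁻¹' Z =
          (pullback.snd f h).base ⁻¹' E ∩ (pullback.fst f h).base ⁻¹' Z) →
      ∃ V : Set Y', IsOpen V ∧ V ∩ h.base ⁻¹' (f.base '' Z) = E)
    {B : Type u} [CommRing B] [IsDomain B] [IsDiscreteValuationRing B]
    (b : Spec (CommRingCat.of B) ⟶ Y)
    (h0 : b (IsLocalRing.closedPoint B) ∈ f '' Z)
    (h1 : b (genericPoint (Spec (CommRingCat.of B))) ∈ f '' Z) :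
    ∃ x : ↥(pullback f b), pullback.fst f b x ∈ Z ∧
      pullback.snd f b x = IsLocalRing.closedPoint B ∧
      x ∈ closure (pullback.fst f b ⁻¹' Z ∩
        pullback.snd f b ⁻¹' {genericPoint (Spec (CommRingCat.of B))}) := by
  by_contra hno
  push Not at hno
  let e : Spec (CommRingCat.of B) := IsLocalRing.closedPoint B
  let η := genericPoint (Spec (CommRingCat.of B))
  obtain ⟨V, hVo, hV⟩ := h3 _ b {e} (Set.singleton_subset_iff.mpr h0)
    ⟨(closure (pullback.fst f b ⁻¹' Z ∩ pullback.snd f b ⁻¹' {η}))ᶜ,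
      isClosed_closure.isOpen_compl, by
      ext x
      constructor
      · rintro ⟨hx, hxZ⟩
        refine ⟨?_, hxZ⟩
        rcases eq_closedPoint_or_generic (pullback.snd f b x) with h | h
        · exact h
        · exact (hx (subset_closure ⟨hxZ, h⟩)).elim
      · rintro ⟨hx, hxZ⟩
        exact ⟨hno x hxZ hx, hxZ⟩⟩
  have he : e ∈ V := (hV.symm.subset rfl).1
  have hη : η ∈ V := ((genericPoint_spec _).specializes trivial).mem_open hVo he
  exact closedPoint_ne_generic B (hV.subset ⟨hη, h1⟩).symm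

/-- The key step: over a complete discrete valuation ring, the closure of a geometrically connected
generic component has closed fibre in the component of the closed fibre, once that piece is
proper. -/
theorem isProper_generic_closure {X Y : Scheme.{u}} (f : X ⟶ Y) [IsSeparated f]
    [LocallyOfFiniteType f] [QuasiCompact f] (Z : Set X)
    (h3 : ∀ (Y' : Scheme.{u}) (h : Y' ⟶ Y) (E : Set Y'), E ⊆ h.base ⁻¹' (f.base '' Z) →
      (∃ W : Set ↥(pullback f h), IsOpen W ∧
        W ∩ (pullback.fst f h).base ⁻¹' Z =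
          (pullback.snd f h).base ⁻¹' E ∩ (pullback.fst f h).base ⁻¹' Z) →
      ∃ V : Set Y', IsOpen V ∧ V ∩ h.base ⁻¹' (f.base '' Z) = E)
    {B : Type u} [CommRing B] [IsDomain B] [IsDiscreteValuationRing B]
    [IsAdicComplete (IsLocalRing.maximalIdeal B) B] (b : Spec (CommRingCat.of B) ⟶ Y)
    (y₀ y₁ : Y) (hb₀ : b (IsLocalRing.closedPoint B) = y₀)
    (hb₁ : b (genericPoint (Spec (CommRingCat.of B))) = y₁)
    (h0 : y₀ ∈ f '' Z) (h1 : y₁ ∈ f '' Z)
    (O : X.Opens) (hO : (O : Set X) ∩ f ⁻¹' {y₀} = Z ∩ f ⁻¹' {y₀})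
    (hgeo : ∀ (K : Type u) [Field K] [Algebra (IsLocalRing.ResidueField (Y.presheaf.stalk y₁)) K],
      _root_.IsPreconnected ((FBase.bcπ (f.fiberToSpecResidueField y₁) K ≫ f.fiberι y₁).base ⁻¹' Z))
    {R : Scheme.{u}} (k : R ⟶ pullback f b) [IsProper (k ≫ pullback.snd f b)]
    (hk : Set.range k = pullback.fst f b ⁻¹' Z ∩
        pullback.snd f b ⁻¹' {IsLocalRing.closedPoint B} ∩
        closure (pullback.fst f b ⁻¹' Z ∩
          pullback.snd f b ⁻¹' {genericPoint (Spec (CommRingCat.of B))})) :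
    IsProper ((Scheme.IdealSheafData.vanishingIdeal
        (⟨closure (pullback.fst f b ⁻¹' Z ∩
          pullback.snd f b ⁻¹' {genericPoint (Spec (CommRingCat.of B))}), isClosed_closure⟩ :
          Closeds ↥(pullback f b))).subschemeι ≫ pullback.snd f b) ∧
      ∀ x ∈ closure (pullback.fst f b ⁻¹' Z ∩
          pullback.snd f b ⁻¹' {genericPoint (Spec (CommRingCat.of B))}),
        pullback.snd f b x = IsLocalRing.closedPoint B → pullback.fst f b x ∈ Z := by
  let η := genericPoint (Spec (CommRingCat.of B))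
  let S := pullback.fst f b ⁻¹' Z ∩ pullback.snd f b ⁻¹' {η}
  have hS : _root_.IsPreconnected S := by
    obtain ⟨φ, Φ, hΦ₁, -, hΦr⟩ := exists_fibre_map f b (FractionRing B)
      (Spec.map (CommRingCat.ofHom (algebraMap B (FractionRing B)))) η (by
        show _ = genericPoint (Spec (CommRingCat.of B))
        rw [genericPoint_eq_bot_of_affine]
        apply PrimeSpectrum.ext
        show (IsLocalRing.maximalIdeal (FractionRing B)).comap (algebraMap B (FractionRing B)) = ⊥
        rw [IsLocalRing.maximalIdeal_eq_bot, ← RingHom.ker_eq_comap_bot]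
        exact (RingHom.injective_iff_ker_eq_bot _).mp (IsFractionRing.injective B (FractionRing B)))
      y₁ hb₁
    letI : Algebra (IsLocalRing.ResidueField (Y.presheaf.stalk y₁)) (FractionRing B) :=
      φ.hom.toAlgebra
    have h := (hgeo (FractionRing B)).image _ Φ.continuous.continuousOn
    rw [← hΦ₁] at h
    refine (congrArg _root_.IsPreconnected ?_).mp h
    ext x
    constructor
    · rintro ⟨w, hw, rfl⟩
      exact ⟨hw, hΦr.subset ⟨w, rfl⟩⟩
    · rintro ⟨hxZ, hxη⟩
      obtain ⟨w, rfl⟩ := hΦr.ge hxη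
      exact ⟨w, hxZ, rfl⟩
  have hfib : ∀ x : ↥(pullback f b), pullback.snd f b x = IsLocalRing.closedPoint B →
      (pullback.fst f b x ∈ Z ↔ pullback.fst f b x ∈ O) := by
    intro x hx
    have hfy : f (pullback.fst f b x) = y₀ := by
      rw [← Scheme.Hom.comp_apply, pullback.condition, Scheme.Hom.comp_apply, hx, hb₀]
    exact ⟨fun h ↦ (hO.ge ⟨h, hfy⟩).1, fun h ↦ (hO.le ⟨h, hfy⟩).1⟩
  obtain ⟨x, hxZ, hxe, hxcl⟩ := exists_mem_closure_generic f Z h3 b (hb₀ ▸ h0) (hb₁ ▸ h1)
  have hk' : Set.range k = ((pullback.fst f b ⁻¹ᵁ O : (pullback f b).Opens) : Set ↥(pullback f b)) ∩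
      pullback.snd f b ⁻¹' {IsLocalRing.closedPoint B} ∩ closure S := by
    rw [hk]
    ext w
    constructor
    · rintro ⟨⟨hw, hwe⟩, hwc⟩
      exact ⟨⟨(hfib w hwe).mp hw, hwe⟩, hwc⟩
    · rintro ⟨⟨hw, hwe⟩, hwc⟩
      exact ⟨⟨(hfib w hwe).mpr hw, hwe⟩, hwc⟩
  obtain ⟨hP, hsub⟩ := isProper_closure_of_piece (pullback.snd f b) S hS _ k hk'
    ⟨x, hk.ge ⟨⟨hxZ, hxe⟩, hxcl⟩⟩
  exact ⟨hP, fun w hw hwe ↦ (hfib w hwe).mpr (hsub w hw hwe)⟩

end DvrProperLib
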